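import Cfsg.Agent.Lib.Fusion.LayerCore
import Cfsg.Agent.Lib.Fusion.CentralizerNormal
import Cfsg.Agent.Lib.Fusion.SatCriterion.Main
import Cfsg.Agent.Lib.Fusion.Invariant
import Cfsg.Agent.Lib.FusionQuot.GroupCriterion

/-!
# Intersections of invariant subsystems: the automizers

For saturated invariant subsystems `D₁`, `D₂` over `T₁`, `T₂` this file defines the automizer
`gam Q` of the intersection at a subgroup `Q` of `T₁ ⊓ T₂`, together with its functoriality.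
-/

set_option autoImplicit false

namespace CfsgLib.Fusion.Inter

open Cfsg Cfsg.FusionSystem CfsgLib.Fusion

variable {Ω : Type*} [Group Ω] {S T T' : Subgroup Ω} {F : Cfsg.FusionSystem S} {p : ℕ}
variable {P Q R U V Y : Subgroup Ω}

/-- `Q ≤ T` with all conjugates self-centralizing in `T`. -/
def IsTC (F : Cfsg.FusionSystem S) (T Q : Subgroup Ω) : Prop :=
  Q ≤ T ∧ ∀ R, F.IsConj Q R → centralizerIn T R ≤ R

theorem conj_le (hT : F.StronglyClosed T) (hQ : Q ≤ T) (hc : F.IsConj Q R) : R ≤ T := by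
  obtain ⟨φ, hφ, rfl⟩ := hc
  rintro _ ⟨x, rfl⟩
  exact hT.2 Q hQ φ hφ x

theorem IsTC.self (h : IsTC F T Q) (hTS : T ≤ S) : centralizerIn T Q ≤ Q :=
  h.2 Q (isConj_refl F (h.1.trans hTS))

theorem IsTC.conj (h : IsTC F T Q) (hT : F.StronglyClosed T) (hc : F.IsConj Q R) : IsTC F T R :=
  ⟨conj_le hT h.1 hc, fun R' hR' => h.2 R' (isConj_trans hc hR')⟩

theorem IsTC.mono (h : IsTC F T Q) (hQR : Q ≤ R) (hR : R ≤ T) : IsTC F T R := by
  refine ⟨hR, fun X hX => ?_⟩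
  obtain ⟨φ, hφ, rfl⟩ := hX
  have h1 : F.IsConj Q ((Q.subgroupOf R).map φ) :=
    ⟨_, restrict_mem hφ hQR, range_comp_inclusion hQR⟩
  have hle : (Q.subgroupOf R).map φ ≤ φ.range := Subgroup.map_le_range _ _
  refine le_trans ?_ ((h.2 _ h1).trans hle)
  exact inf_le_inf_left _ (Subgroup.centralizer_le hle)

theorem congr_congr {P Q R : Subgroup Ω} (f : P ≃* Q) (g : Q ≃* R) (a : MulAut P) :
    MulAut.congr g (MulAut.congr f a) = MulAut.congr (f.trans g) a := MulEquiv.ext fun x => by simp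

theorem congr_symm_congr {P Q : Subgroup Ω} (f : P ≃* Q) (a : MulAut P) :
    MulAut.congr f.symm (MulAut.congr f a) = a := MulEquiv.ext fun x => by simp

theorem congr_refl (a : MulAut P) : MulAut.congr (MulEquiv.refl P) a = a :=
  MulEquiv.ext fun x => by simp

theorem orderOf_congr {P Q : Subgroup Ω} (f : P ≃* Q) (a : MulAut P) :
    orderOf (MulAut.congr f a) = orderOf a := (MulAut.congr f).orderOf_eq a

/-! ### Elements transported from `Aut_T` -/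

/-- The automorphisms carried to conjugation by an element of `T` by some isomorphism. -/
def aGens (F : Cfsg.FusionSystem S) (T Q : Subgroup Ω) : Set (MulAut Q) :=
  {a | ∃ (Q' : Subgroup Ω) (f : Q ≃* Q'), IsFIso F f ∧
    ∃ t ∈ T, ∃ ht : t ∈ Subgroup.normalizer (Q' : Set Ω), MulAut.congr f a = conjAut Q' t ht}

theorem aGens_congr {g : Q ≃* R} (hg : IsFIso F g) {a : MulAut Q} (ha : a ∈ aGens F T Q) :
    MulAut.congr g a ∈ aGens F T R := by
  obtain ⟨Q', f, hf, t, ht, htN, heq⟩ := ha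
  refine ⟨Q', g.symm.trans f, hg.symm.trans hf, t, ht, htN, ?_⟩
  rw [← congr_congr, congr_symm_congr, heq]

theorem aGens_le_autGroup (hTS : T ≤ S) {a : MulAut Q} (ha : a ∈ aGens F T Q) :
    a ∈ F.autGroup Q := by
  obtain ⟨Q', f, hf, t, ht, htN, heq⟩ := ha
  refine hf.congr_mem_iff.1 ?_
  rw [heq]
  exact autInducedBy_le_autGroup F hf.le_right (conjAut_mem_autInducedBy (hTS ht) htN)

theorem autInducedBy_subset_aGens (hQS : Q ≤ S) {a : MulAut Q} (ha : a ∈ autInducedBy T Q) :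
    a ∈ aGens F T Q := by
  obtain ⟨g, hgN, hgT, rfl⟩ := exists_eq_conjAut ha
  exact ⟨Q, MulEquiv.refl Q, IsFIso.refl hQS, g, hgT, hgN, congr_refl _⟩

theorem aGens_subset_of_invariant {D : Cfsg.FusionSystem T'} (hD : D.IsInvariantIn F) (hTT' : T ≤ T')
    (hQ : Q ≤ T') {a : MulAut Q} (ha : a ∈ aGens F T Q) : a ∈ D.autGroup Q := by
  obtain ⟨Q', f, hf, t, ht, htN, heq⟩ := ha
  have hQ' : Q' ≤ T' := conj_le hD.2.1 hQ hf.isConj
  have h1 : conjAut Q' t htN ∈ D.autGroup Q' :=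
    autInducedBy_le_autGroup D hQ' (conjAut_mem_autInducedBy (hTT' ht) htN)
  rw [← heq] at h1
  have h2 := CfsgLib.FusionQuot.congr_mem_autGroup_of_invariant hD hQ' hQ hf.symm h1
  rwa [congr_symm_congr] at h2

/-! ### Automorphisms of `Q C_S(Q)` compatible with one subsystem -/

theorem cen_mem {W : Subgroup Ω} {β : MulAut W} (hWS : W ≤ S)
    (hQW : Q ≤ W) (hst : ∀ x : W, ((β x : W) : Ω) ∈ Q ↔ (x : Ω) ∈ Q)
    {c : W} (hc : (c : Ω) ∈ centralizerIn S Q) : ((β c : W) : Ω) ∈ centralizerIn S Q := by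
  refine ⟨hWS (β c).2, Subgroup.mem_centralizer_iff.2 fun y hy => ?_⟩
  obtain ⟨x, hx⟩ := β.surjective ⟨y, hQW hy⟩
  have hxQ : (x : Ω) ∈ Q := (hst x).1 (by rw [hx]; exact hy)
  have h1 : x * c = c * x := Subtype.ext (Subgroup.mem_centralizer_iff.1 hc.2 x hxQ)
  have h2 := congrArg β h1
  rw [map_mul, map_mul, hx] at h2
  exact congrArg Subtype.val h2

theorem sup_centralizerIn_le (hQS : Q ≤ S) : Q ⊔ centralizerIn S Q ≤ S :=
  sup_le hQS (centralizerIn_le S Q)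

theorem sup_cen_mono (hT' : T' ≤ S) : Q ⊔ centralizerIn T' Q ≤ Q ⊔ centralizerIn S Q :=
  sup_le_sup_left (inf_le_inf_right _ hT') Q

/-- The automorphisms of `Q C_S(Q)` which stabilize `Q`, act trivially modulo `T'` on `C_S(Q)` and
agree on `Q C_{T'}(Q)` with a map of `D`. -/
def sideAut (F : Cfsg.FusionSystem S) (D : Cfsg.FusionSystem T') (hT' : T' ≤ S) (hQS : Q ≤ S) :
    Subgroup (MulAut ↥(Q ⊔ centralizerIn S Q)) where
  carrier := {β | β ∈ F.autGroup (Q ⊔ centralizerIn S Q) ∧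
    (∀ x : ↥(Q ⊔ centralizerIn S Q), ((β x : ↥(Q ⊔ centralizerIn S Q)) : Ω) ∈ Q ↔ (x : Ω) ∈ Q) ∧
    (∀ c : ↥(Q ⊔ centralizerIn S Q), (c : Ω) ∈ centralizerIn S Q →
      ((c⁻¹ * β c : ↥(Q ⊔ centralizerIn S Q)) : Ω) ∈ T') ∧
    ∃ γ ∈ D.autGroup (Q ⊔ centralizerIn T' Q), ∀ v : ↥(Q ⊔ centralizerIn T' Q),
      β (Subgroup.inclusion (sup_cen_mono hT') v) = Subgroup.inclusion (sup_cen_mono hT') (γ v)}
  one_mem' := ⟨one_mem _, fun x => Iff.rfl, fun c _ => by simp, 1, one_mem _, fun v => rfl⟩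
  mul_mem' := by
    rintro β β' ⟨hβ, hst, hd, γ, hγ, hag⟩ ⟨hβ', hst', hd', γ', hγ', hag'⟩
    refine ⟨mul_mem hβ hβ', fun x => (hst (β' x)).trans (hst' x), fun c hc => ?_, γ * γ',
      mul_mem hγ hγ', fun v => ?_⟩
    · show ((c⁻¹ * β (β' c) : ↥(Q ⊔ centralizerIn S Q)) : Ω) ∈ T'
      rw [show c⁻¹ * β (β' c) = (c⁻¹ * β' c) * ((β' c)⁻¹ * β (β' c)) by group]
      exact T'.mul_mem (hd' c hc) (hd _ (cen_mem (sup_centralizerIn_le hQS) le_sup_left hst' hc))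
    · rw [MulAut.mul_apply, MulAut.mul_apply, hag', hag]
  inv_mem' := by
    rintro β ⟨hβ, hst, hd, γ, hγ, hag⟩
    have hst' : ∀ x : ↥(Q ⊔ centralizerIn S Q),
        ((β⁻¹ x : ↥(Q ⊔ centralizerIn S Q)) : Ω) ∈ Q ↔ (x : Ω) ∈ Q := fun x => by
      conv_rhs => rw [← MulAut.apply_inv_self _ β x, hst]
    refine ⟨inv_mem hβ, hst', fun c hc => ?_, γ⁻¹, inv_mem hγ, fun v => β.injective ?_⟩
    · have h1 := T'.inv_mem (hd _ (cen_mem (sup_centralizerIn_le hQS) le_sup_left hst' hc))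
      rw [← Subgroup.coe_inv, mul_inv_rev, inv_inv, MulAut.apply_inv_self] at h1
      exact h1
    · rw [MulAut.apply_inv_self, hag, MulAut.apply_inv_self]

variable {D : Cfsg.FusionSystem T'}

theorem mem_sideAut {hT' : T' ≤ S} {hQS : Q ≤ S} {β : MulAut ↥(Q ⊔ centralizerIn S Q)} :
    β ∈ sideAut F D hT' hQS ↔ β ∈ F.autGroup (Q ⊔ centralizerIn S Q) ∧
    (∀ x : ↥(Q ⊔ centralizerIn S Q), ((β x : ↥(Q ⊔ centralizerIn S Q)) : Ω) ∈ Q ↔ (x : Ω) ∈ Q) ∧
    (∀ c : ↥(Q ⊔ centralizerIn S Q), (c : Ω) ∈ centralizerIn S Q →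
      ((c⁻¹ * β c : ↥(Q ⊔ centralizerIn S Q)) : Ω) ∈ T') ∧
    ∃ γ ∈ D.autGroup (Q ⊔ centralizerIn T' Q), ∀ v : ↥(Q ⊔ centralizerIn T' Q),
      β (Subgroup.inclusion (sup_cen_mono hT') v) = Subgroup.inclusion (sup_cen_mono hT') (γ v) :=
  Iff.rfl

/-- An extension of an isomorphism between fully centralized subgroups to `Q C_S(Q)`. -/
theorem exists_iso_sup [Finite S] [Fact p.Prime] (hS : IsPGroup p S) (hF : F.IsSaturated p)
    (hQ : F.IsFullyCentralized Q) (hR : F.IsFullyCentralized R) {f : Q ≃* R} (hf : IsFIso F f) :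
    ∃ g : ↥(Q ⊔ centralizerIn S Q) ≃* ↥(R ⊔ centralizerIn S R), IsFIso F g ∧
      (∀ x : Q, (g (Subgroup.inclusion le_sup_left x) : Ω) = f x) ∧
      (∀ w, (g w : Ω) ∈ R ↔ (w : Ω) ∈ Q) ∧
      (∀ w, (g w : Ω) ∈ centralizerIn S R ↔ (w : Ω) ∈ centralizerIn S Q) ∧
      ∀ (X : Subgroup Ω), F.StronglyClosed X → ∀ w, (g w : Ω) ∈ X ↔ (w : Ω) ∈ X := by
  have hN : Q ⊔ centralizerIn S Q ≤ normalizerIn S Q :=
    sup_le (le_normalizerIn hf.le_left) (centralizerIn_le_normalizerIn S Q)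
  have hext : Q ⊔ centralizerIn S Q ≤ extender S Q (R.subtype.comp f.toMonoidHom) :=
    sup_le (le_extender hf.le_left fun x => map_mem hf x) (centralizerIn_le_extender _)
  obtain ⟨ψ, hψ, -, hag⟩ := hf.exists_extension (isReceptive_of_isFullyCentralized hS hF hR)
    (le_sup_left (b := centralizerIn S Q)) hN
    fun g hg => (mem_extender_iff_congr f (fun _ => rfl) (hN hg).1 (hN hg).2).1 (hext hg)
  have hQW : Q ≤ Q ⊔ centralizerIn S Q := le_sup_left
  have hCW : centralizerIn S Q ≤ Q ⊔ centralizerIn S Q := le_sup_right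
  have hcenmap : ∀ (c : Ω) (hc : c ∈ centralizerIn S Q), ψ ⟨c, hCW hc⟩ ∈ centralizerIn S R :=
    fun c hc => ⟨map_mem hψ _, (map_mem_centralizer_iff_of_extends hQW hag (hCW hc)
      (centralizer_le_normalizer Q hc.2)).2 hc.2⟩
  have : Finite (centralizerIn S R) := finite_of_le (centralizerIn_le S R)
  have : Finite (centralizerIn S Q) := finite_of_le (centralizerIn_le S Q)
  let k : centralizerIn S Q → centralizerIn S R := fun c => ⟨_, hcenmap c c.2⟩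
  have hk : Function.Injective k := fun a b h => by
    have h1 := hom_inj hψ (Subtype.ext_iff.1 h)
    exact Subtype.ext (Subtype.ext_iff.1 h1 :)
  have hkb : Function.Bijective k :=
    (Nat.bijective_iff_injective_and_card k).2
      ⟨hk, le_antisymm (hR.2 Q (isConj_symm hf.isConj)) (hQ.2 R hf.isConj)⟩
  have hrange : ψ.range = R ⊔ centralizerIn S R := by
    refine le_antisymm ?_ (sup_le (fun y hy => ?_) fun y hy => ?_)
    · rintro _ ⟨w, rfl⟩
      exact forall_mem_of_sup (φ := ψ) (fun x => Subgroup.mem_sup_left (by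
        rw [show ψ (Subgroup.inclusion hQW x) = f x from hag x]
        exact (f x).2)) (fun c => Subgroup.mem_sup_right (hcenmap c c.2)) w
    · exact ⟨_, (hag (f.symm ⟨y, hy⟩)).trans (congrArg Subtype.val (f.apply_symm_apply ⟨y, hy⟩))⟩
    · obtain ⟨c, hc⟩ := hkb.2 ⟨y, hy⟩
      exact ⟨_, Subtype.ext_iff.1 hc⟩
  obtain ⟨g, hg, hgx⟩ := exists_iso hψ hrange
  have hgQ : ∀ x : Q, (g (Subgroup.inclusion le_sup_left x) : Ω) = f x := fun x =>
    (hgx _).trans (hag x)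
  refine ⟨g, hg, hgQ, fun w => ⟨fun hw => ?_, fun hw => ?_⟩, fun w => ⟨fun hw => ?_, fun hw => ?_⟩,
    fun X hX w => ⟨fun hw => ?_, fun hw => stronglyClosed_apply_mem hX hg w hw⟩⟩
  · have h1 : g (Subgroup.inclusion le_sup_left (f.symm ⟨_, hw⟩)) = g w := Subtype.ext (by
      rw [hgQ, MulEquiv.apply_symm_apply])
    rw [← g.injective h1]
    exact (f.symm ⟨_, hw⟩).2
  · have h1 : w = Subgroup.inclusion le_sup_left (⟨(w : Ω), hw⟩ : Q) := rfl
    rw [h1, hgQ]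
    exact (f _).2
  · obtain ⟨c, hc⟩ := hkb.2 ⟨_, hw⟩
    have h1 : g ⟨(c : Ω), hCW c.2⟩ = g w := Subtype.ext ((hgx _).trans (Subtype.ext_iff.1 hc))
    rw [← g.injective h1]
    exact c.2
  · rw [hgx]
    exact hcenmap w hw
  · have h1 : ((g.symm (g w) : ↥(Q ⊔ centralizerIn S Q)) : Ω) ∈ X :=
      stronglyClosed_apply_mem hX hg.symm (g w) hw
    rwa [g.symm_apply_apply] at h1

/-- `sideAut` is carried along isomorphisms between fully centralized subgroups. -/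
theorem congr_mem_sideAut (hT' : T' ≤ S) (hD : D.IsInvariantIn F) (hQT : Q ≤ T')
    (hQS : Q ≤ S) (hRS : R ≤ S) {g : ↥(Q ⊔ centralizerIn S Q) ≃* ↥(R ⊔ centralizerIn S R)}
    (hg : IsFIso F g) (h₁ : ∀ w, (g w : Ω) ∈ R ↔ (w : Ω) ∈ Q)
    (h₂ : ∀ w, (g w : Ω) ∈ centralizerIn S R ↔ (w : Ω) ∈ centralizerIn S Q)
    (h₃ : ∀ w, (g w : Ω) ∈ T' ↔ (w : Ω) ∈ T')
    {β : MulAut ↥(Q ⊔ centralizerIn S Q)} (hβ : β ∈ sideAut F D hT' hQS) :
    MulAut.congr g β ∈ sideAut F D hT' hRS := by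
  obtain ⟨hβF, hst, hd, γ, hγ, hag⟩ := mem_sideAut.1 hβ
  refine mem_sideAut.2 ⟨hg.congr_mem hβF, fun y => ?_, fun c hc => ?_, ?_⟩
  · obtain ⟨x, rfl⟩ := g.surjective y
    rw [congr_apply, MulEquiv.symm_apply_apply, h₁, h₁, hst]
  · obtain ⟨x, rfl⟩ := g.surjective c
    rw [congr_apply, MulEquiv.symm_apply_apply, ← map_inv, ← map_mul, h₃]
    exact hd x ((h₂ x).1 hc)
  · have hVQ : Q ⊔ centralizerIn T' Q ≤ T' := sup_le hQT (centralizerIn_le T' Q)
    have hRT : R ≤ T' := fun y hy => by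
      obtain ⟨x, hx⟩ := g.surjective ⟨y, Subgroup.mem_sup_left hy⟩
      have hxQ : (x : Ω) ∈ Q := (h₁ x).1 (by rw [hx]; exact hy)
      have := (h₃ x).2 (hQT hxQ)
      rwa [hx] at this
    have hVR : R ⊔ centralizerIn T' R ≤ T' := sup_le hRT (centralizerIn_le T' R)
    have hmemV : ∀ w, (g w : Ω) ∈ R ⊔ centralizerIn T' R ↔ (w : Ω) ∈ Q ⊔ centralizerIn T' Q := by
      intro w
      constructor
      · intro hw
        let K := (Q ⊔ centralizerIn T' Q).subgroupOf (Q ⊔ centralizerIn S Q)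
        suffices h : R ⊔ centralizerIn T' R ≤
            K.map ((R ⊔ centralizerIn S R).subtype.comp g.toMonoidHom) by
          obtain ⟨u, hu, huw⟩ := h hw
          have : g u = g w := Subtype.ext huw
          rw [← g.injective this]
          exact hu
        refine sup_le (fun y hy => ?_) fun y hy => ?_
        · obtain ⟨x, hx⟩ := g.surjective ⟨y, Subgroup.mem_sup_left hy⟩
          exact ⟨x, Subgroup.mem_sup_left ((h₁ x).1 (by rw [hx]; exact hy)),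
            congrArg Subtype.val hx⟩
        · have hyS : y ∈ centralizerIn S R := ⟨hT' hy.1, hy.2⟩
          obtain ⟨x, hx⟩ := g.surjective ⟨y, Subgroup.mem_sup_right hyS⟩
          refine ⟨x, Subgroup.mem_sup_right ⟨(h₃ x).1 (by rw [hx]; exact hy.1), ?_⟩,
            congrArg Subtype.val hx⟩
          exact ((h₂ x).1 (by rw [hx]; exact hyS)).2
      · intro hw
        refine forall_mem_of_sup (φ := ((R ⊔ centralizerIn S R).subtype.comp g.toMonoidHom).comp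
          (Subgroup.inclusion (sup_cen_mono hT'))) (fun x => ?_) (fun c => ?_) ⟨(w : Ω), hw⟩
        · exact Subgroup.mem_sup_left ((h₁ _).2 x.2)
        · exact Subgroup.mem_sup_right ⟨(h₃ _).2 c.2.1, ((h₂ _).2 ⟨hT' c.2.1, c.2.2⟩).2⟩
    set g' := restrictIso g (sup_cen_mono hT') (sup_cen_mono hT') hmemV with hg'def
    have hg' : IsFIso F g' := hg.restrict (sup_cen_mono hT') _ fun x => rfl
    refine ⟨MulAut.congr g' γ,
      CfsgLib.FusionQuot.congr_mem_autGroup_of_invariant hD hVQ hVR hg' hγ, fun v => ?_⟩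
    obtain ⟨u, rfl⟩ := g'.surjective v
    have e1 : Subgroup.inclusion (sup_cen_mono hT') (g' u) =
        g (Subgroup.inclusion (sup_cen_mono hT') u) := Subtype.ext rfl
    rw [e1, congr_apply, MulEquiv.symm_apply_apply, hag, congr_apply, MulEquiv.symm_apply_apply]
    exact Subtype.ext rfl

theorem congr_eq_conj (β a : MulAut Q) : MulAut.congr (β : Q ≃* Q) a = β * a * β⁻¹ :=
  MulEquiv.ext fun _ => rfl

/-- `S` normalizes the centralizer of a subgroup it normalizes. -/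
theorem mem_normalizer_centralizerIn {g : Ω} (hgS : g ∈ S) (hg : g ∈ Subgroup.normalizer (Q : Set Ω)) :
    g ∈ Subgroup.normalizer (centralizerIn S Q : Set Ω) := by
  have key : ∀ k : Ω, k ∈ S → k ∈ Subgroup.normalizer (Q : Set Ω) → ∀ c ∈ centralizerIn S Q,
      k * c * k⁻¹ ∈ centralizerIn S Q := by
    intro k hkS hk c hc
    refine ⟨S.mul_mem (S.mul_mem hkS hc.1) (S.inv_mem hkS), Subgroup.mem_centralizer_iff.2
      fun y hy => ?_⟩
    have h1 : k⁻¹ * y * k ∈ Q := (Subgroup.mem_normalizer_iff''.1 hk y).1 hy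
    calc y * (k * c * k⁻¹) = k * (k⁻¹ * y * k * c) * k⁻¹ := by group
      _ = k * (c * (k⁻¹ * y * k)) * k⁻¹ := by rw [Subgroup.mem_centralizer_iff.1 hc.2 _ h1]
      _ = _ := by group
  refine Subgroup.mem_normalizer_iff.2 fun n => ⟨key g hgS hg n, fun hn => ?_⟩
  have h1 := key g⁻¹ (S.inv_mem hgS) (inv_mem hg) _ hn
  simpa [mul_assoc] using h1

theorem conj_mem_of_stronglyClosed (hT : F.StronglyClosed T) {g t : Ω} (hg : g ∈ S) (ht : t ∈ T) :
    g * t * g⁻¹ ∈ T :=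
  conj_mem_of_mem_normalizer (stronglyClosed_le_normalizer hT hg) ht

/-- A coprime automorphism agreeing with one of an invariant subsystem on a subgroup into which
both are displaced lies in the subsystem. -/
theorem coprime_mem_of_agree [Finite S] [Fact p.Prime] (hS : IsPGroup p S) (hD : D.IsInvariantIn F)
    (hU : U ≤ T') {β ψ : MulAut U} (hβ : β ∈ F.autGroup U) (hco : (orderOf β).Coprime p)
    (hψ : ψ ∈ D.autGroup U) (hfix : ∀ x : U, (x : Ω) ∈ V → β x = ψ x)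
    (hdisp : ∀ x : U, ((x⁻¹ * (ψ⁻¹ * β) x : U) : Ω) ∈ V) : β ∈ D.autGroup U := by
  have hUS : U ≤ S := hU.trans hD.2.1.1
  have : Finite U := finite_of_le hUS
  set κ := ψ⁻¹ * β with hκ
  have hκfix : ∀ x : U, (x : Ω) ∈ V → κ x = x := fun x hx => by
    rw [hκ, MulAut.mul_apply, hfix x hx, MulAut.inv_apply_self]
  have hpow : ∀ (n : ℕ) (x : U), (κ ^ n) x = x * (x⁻¹ * κ x) ^ n := by
    intro n
    induction n with
    | zero => simp
    | succ n ih =>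
      intro x
      rw [pow_succ', MulAut.mul_apply, ih, map_mul, map_pow, hκfix (x⁻¹ * κ x) (hdisp x),
        pow_succ' (x⁻¹ * κ x), ← mul_assoc, mul_inv_cancel_left]
  obtain ⟨m, hm⟩ := IsPGroup.iff_card.1 (hS.to_le hUS)
  have hκm : κ ^ p ^ m = 1 := MulEquiv.ext fun x => by
    rw [hpow, ← hm, pow_card_eq_one', mul_one]
    rfl
  set N := (D.autGroup U).subgroupOf (F.autGroup U)
  have : N.Normal := ⟨fun δ hδ γ =>
    CfsgLib.FusionQuot.conj_mem_autGroup_of_invariant hD hU γ.2 hδ⟩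
  have hψF : ψ ∈ F.autGroup U := CfsgLib.FusionQuot.autGroup_le_of_subsystem hD.1 U hψ
  set bF : F.autGroup U := ⟨β, hβ⟩
  have hq : QuotientGroup.mk' N bF = QuotientGroup.mk' N ⟨κ, mul_mem (inv_mem hψF) hβ⟩ :=
    QuotientGroup.eq.2 (by
      show β⁻¹ * (ψ⁻¹ * β) ∈ D.autGroup U
      have h1 := CfsgLib.FusionQuot.conj_mem_autGroup_of_invariant hD hU (inv_mem hβ) (inv_mem hψ)
      rwa [inv_inv, mul_assoc] at h1)
  have h1 : orderOf (QuotientGroup.mk' N bF) ∣ orderOf β :=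
    (orderOf_map_dvd _ bF).trans (Subgroup.orderOf_coe bF).symm.dvd
  have h2 : orderOf (QuotientGroup.mk' N bF) ∣ p ^ m := by
    rw [hq]
    refine orderOf_dvd_of_pow_eq_one ?_
    rw [← map_pow, show (⟨κ, mul_mem (inv_mem hψF) hβ⟩ : F.autGroup U) ^ p ^ m = 1 from
      Subtype.ext hκm, map_one]
  have h3 : orderOf (QuotientGroup.mk' N bF) = 1 :=
    Nat.eq_one_of_dvd_coprimes (hco.pow_right m) h1 h2
  exact (QuotientGroup.eq_one_iff bF).1 (orderOf_eq_one_iff.1 h3)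

/-- A coprime automorphism of `U` restricting into `D` on a normal centric subgroup lies in `D`. -/
theorem coprime_mem_of_centric [Finite S] [Fact p.Prime] (hS : IsPGroup p S)
    (hDs : D.IsSaturated p) (hD : D.IsInvariantIn F) (hU : U ≤ T') (hV : D.IsCentric V)
    (hVU : V ≤ U) (hUN : U ≤ Subgroup.normalizer (V : Set Ω)) {β : MulAut U}
    (hβ : β ∈ F.autGroup U) (hco : (orderOf β).Coprime p) {γ : MulAut V} (hγ : γ ∈ D.autGroup V)
    (hag : ∀ v : V, β (Subgroup.inclusion hVU v) = Subgroup.inclusion hVU (γ v)) :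
    β ∈ D.autGroup U := by
  have hT'S : T' ≤ S := hD.2.1.1
  have : Finite T' := finite_of_le hT'S
  have hT'p : IsPGroup p T' := hS.to_le hT'S
  have hUN' : U ≤ normalizerIn T' V := le_inf hU hUN
  have hrec := isReceptive_of_isCentric hT'p hDs hV
  have hagv : ∀ v : V, (U.subtype.comp β.toMonoidHom) ⟨v, hVU v.2⟩ = ((γ v : V) : Ω) := fun v =>
    congrArg Subtype.val (hag v)
  obtain ⟨ψ, hψ, -, hψv⟩ := ((mem_autGroup_iff hV.1).1 hγ).exists_extension hrec hVU hUN'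
    fun g hg => by
      rw [congr_conjAut_eq_of_extends hVU hagv hg (hUN' hg).2]
      exact conjAut_mem_autInducedBy (hU (β ⟨g, hg⟩).2) _
  have hC : centralizerIn T' V ≤ V := centralizerIn_le_of_isCentric hV
  have hmap : ∀ x : U, ψ x ∈ U := by
    intro x
    have h1 : ((β x : U) : Ω)⁻¹ * ψ x ∈ centralizerIn T' V := by
      refine ⟨T'.mul_mem (T'.inv_mem (hU (β x).2)) (map_mem hψ x),
        Subgroup.mem_centralizer_iff.2 fun v hv => ?_⟩
      obtain ⟨u, hu⟩ := γ.surjective ⟨v, hv⟩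
      have hconj : (x : Ω) * u * (x : Ω)⁻¹ ∈ V := conj_mem_of_mem_normalizer (hUN x.2) u.2
      have e : (⟨(x : Ω) * u * (x : Ω)⁻¹, hVU hconj⟩ : U) = x * ⟨u, hVU u.2⟩ * x⁻¹ :=
        Subtype.ext rfl
      have h2 := (hψv ⟨_, hconj⟩).trans (hagv ⟨_, hconj⟩).symm
      rw [e, map_mul, map_mul, map_inv, map_mul, map_mul, map_inv, hψv, hagv, hu] at h2
      show v * (((β x : U) : Ω)⁻¹ * ψ x) = ((β x : U) : Ω)⁻¹ * ψ x * v
      have h3 : ψ x * v * (ψ x)⁻¹ = ((β x : U) : Ω) * v * ((β x : U) : Ω)⁻¹ := h2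
      calc v * (((β x : U) : Ω)⁻¹ * ψ x)
          = ((β x : U) : Ω)⁻¹ * (((β x : U) : Ω) * v * ((β x : U) : Ω)⁻¹) * ψ x := by group
        _ = _ := by rw [← h3]; group
    have := U.mul_mem (β x).2 (hVU (hC h1))
    rwa [mul_inv_cancel_left] at this
  obtain ⟨ψ', hψ', hψ'x⟩ := LayerCore.exists_aut_of_mapsTo hψ hmap
  have hfix : ∀ x : U, (x : Ω) ∈ V → β x = ψ' x := fun x hx =>
    Subtype.ext ((hagv ⟨x, hx⟩).trans ((hψv ⟨x, hx⟩).symm.trans (hψ'x x).symm))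
  refine coprime_mem_of_agree hS hD hU hβ hco hψ' hfix fun x => ?_
  refine hC ⟨hU (x⁻¹ * (ψ'⁻¹ * β) x).2, Subgroup.mem_centralizer_iff.2 fun v hv => ?_⟩
  have hκ : ∀ y : U, (y : Ω) ∈ V → (ψ'⁻¹ * β) y = y := fun y hy => by
    rw [MulAut.mul_apply, hfix y hy, MulAut.inv_apply_self]
  have hconj : (x : Ω) * v * (x : Ω)⁻¹ ∈ V := conj_mem_of_mem_normalizer (hUN x.2) hv
  have h1 := hκ (x * ⟨v, hVU hv⟩ * x⁻¹) hconj
  rw [map_mul, map_mul, map_inv, hκ ⟨v, hVU hv⟩ hv] at h1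
  generalize (ψ'⁻¹ * β) x = y at h1 ⊢
  have h2 : (y : Ω) * v * (y : Ω)⁻¹ = (x : Ω) * v * (x : Ω)⁻¹ := congrArg Subtype.val h1
  show v * ((x : Ω)⁻¹ * (y : Ω)) = (x : Ω)⁻¹ * (y : Ω) * v
  calc v * ((x : Ω)⁻¹ * (y : Ω))
      = (x : Ω)⁻¹ * ((x : Ω) * v * (x : Ω)⁻¹) * (y : Ω) := by group
    _ = _ := by rw [← h2]; group

/-- Conjugation by an element of a strongly closed subgroup is compatible with a subsystem over it. -/
theorem conjAut_mem_sideAut {A : Subgroup Ω} (DA : Cfsg.FusionSystem A) (hA : F.StronglyClosed A)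
    (hQS : Q ≤ S) (hQA : Q ≤ A) {t : Ω} (ht : t ∈ A) (htN : t ∈ Subgroup.normalizer (Q : Set Ω))
    (htW : t ∈ Subgroup.normalizer ((Q ⊔ centralizerIn S Q : Subgroup Ω) : Set Ω)) :
    conjAut _ t htW ∈ sideAut F DA hA.1 hQS := by
  refine mem_sideAut.2 ⟨autInducedBy_le_autGroup F (sup_centralizerIn_le hQS)
    (conjAut_mem_autInducedBy (hA.1 ht) htW), fun x => (Subgroup.mem_normalizer_iff.1 htN x).symm,
    fun c hc => ?_, ?_⟩
  · show (c : Ω)⁻¹ * (t * c * t⁻¹) ∈ A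
    rw [← mul_assoc, ← mul_assoc]
    exact A.mul_mem (by simpa using conj_mem_of_stronglyClosed hA (S.inv_mem hc.1) ht)
      (A.inv_mem ht)
  · have htV : t ∈ Subgroup.normalizer ((Q ⊔ centralizerIn A Q : Subgroup Ω) : Set Ω) :=
      normalizer_sup_of_mem htN (mem_normalizer_centralizerIn ht htN)
    exact ⟨conjAut _ t htV, autInducedBy_le_autGroup DA (sup_le hQA (centralizerIn_le A Q))
      (conjAut_mem_autInducedBy ht htV), fun v => Subtype.ext rfl⟩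

/-- The data: two saturated invariant subsystems. -/
structure Setup {T₁ T₂ : Subgroup Ω} (F : Cfsg.FusionSystem S) (D₁ : Cfsg.FusionSystem T₁)
    (D₂ : Cfsg.FusionSystem T₂) (p : ℕ) : Prop where
  grp : IsPGroup p S
  sat : F.IsSaturated p
  nor₁ : D₁.IsWeaklyNormalIn F p
  nor₂ : D₂.IsWeaklyNormalIn F p

namespace Setup

variable {T₁ T₂ : Subgroup Ω} {D₁ : Cfsg.FusionSystem T₁} {D₂ : Cfsg.FusionSystem T₂}
variable (h : Setup F D₁ D₂ p)
include h

theorem inv₁ : D₁.IsInvariantIn F := h.nor₁.2.2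
theorem inv₂ : D₂.IsInvariantIn F := h.nor₂.2.2
theorem sc₁ : F.StronglyClosed T₁ := h.inv₁.2.1
theorem sc₂ : F.StronglyClosed T₂ := h.inv₂.2.1
theorem le₁ : T₁ ≤ S := h.sc₁.1
theorem le₂ : T₂ ≤ S := h.sc₂.1
theorem sc : F.StronglyClosed (T₁ ⊓ T₂) := CfsgLib.FusionQuot.stronglyClosed_inf h.sc₁ h.sc₂
theorem le : T₁ ⊓ T₂ ≤ S := h.sc.1

/-- The automorphisms of `Q` lifting to both sides. -/
def liftAut (hQ : Q ≤ S) : Subgroup (MulAut Q) where
  carrier := {a | ∃ β ∈ sideAut F D₁ h.le₁ hQ ⊓ sideAut F D₂ h.le₂ hQ,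
    ∀ x : Q, β (Subgroup.inclusion le_sup_left x) = Subgroup.inclusion le_sup_left (a x)}
  one_mem' := ⟨1, one_mem _, fun _ => rfl⟩
  mul_mem' := by
    rintro a b ⟨β, hβ, hβx⟩ ⟨γ, hγ, hγx⟩
    refine ⟨β * γ, mul_mem hβ hγ, fun x => ?_⟩
    rw [MulAut.mul_apply, MulAut.mul_apply, hγx, hβx]
  inv_mem' := by
    rintro a ⟨β, hβ, hβx⟩
    refine ⟨β⁻¹, inv_mem hβ, fun x => β.injective ?_⟩
    rw [MulAut.apply_inv_self, hβx, MulAut.apply_inv_self]

theorem liftAut_le_autGroup (hQ : Q ≤ S) : h.liftAut hQ ≤ F.autGroup Q := by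
  rintro a ⟨β, hβ, hβx⟩
  refine (mem_autGroup_iff_hom hQ).2 (mem_of_restrict
    ((mem_autGroup_iff_hom (sup_centralizerIn_le hQ)).1 hβ.1.1) le_sup_left _ fun x => ?_)
  exact (congrArg Subtype.val (hβx x)).symm

theorem liftAut_le₁ (hQ : Q ≤ S) (hQT : Q ≤ T₁) : h.liftAut hQ ≤ D₁.autGroup Q := by
  rintro a ⟨β, hβ, hβx⟩
  obtain ⟨-, -, -, γ, hγ, hag⟩ := mem_sideAut.1 hβ.1
  refine (mem_autGroup_iff_hom hQT).2 (mem_of_restrict
    ((mem_autGroup_iff_hom (sup_le hQT (centralizerIn_le _ _))).1 hγ) le_sup_left _ fun x => ?_)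
  exact congrArg Subtype.val ((hβx x).symm.trans (hag (Subgroup.inclusion le_sup_left x)))

theorem liftAut_le₂ (hQ : Q ≤ S) (hQT : Q ≤ T₂) : h.liftAut hQ ≤ D₂.autGroup Q := by
  rintro a ⟨β, hβ, hβx⟩
  obtain ⟨-, -, -, γ, hγ, hag⟩ := mem_sideAut.1 hβ.2
  refine (mem_autGroup_iff_hom hQT).2 (mem_of_restrict
    ((mem_autGroup_iff_hom (sup_le hQT (centralizerIn_le _ _))).1 hγ) le_sup_left _ fun x => ?_)
  exact congrArg Subtype.val ((hβx x).symm.trans (hag (Subgroup.inclusion le_sup_left x)))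

/-- The generators of the automizer. -/
def gamGens (Q : Subgroup Ω) : Set (MulAut Q) :=
  aGens F (T₁ ⊓ T₂) Q ∪ {a | ∃ (Q₀ : Subgroup Ω) (hQ₀ : F.IsFullyCentralized Q₀) (f : Q ≃* Q₀),
    IsFIso F f ∧ MulAut.congr f a ∈ h.liftAut hQ₀.1 ∧ (orderOf a).Coprime p}

/-- The automizer of the intersection at `Q`. -/
def gam (Q : Subgroup Ω) : Subgroup (MulAut Q) := Subgroup.closure (h.gamGens Q)

theorem gam_congr {g : Q ≃* R} (hg : IsFIso F g) {a : MulAut Q} (ha : a ∈ h.gam Q) :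
    MulAut.congr g a ∈ h.gam R := by
  have hle : h.gam Q ≤ (h.gam R).comap (MulAut.congr g).toMonoidHom := by
    refine (Subgroup.closure_le _).2 fun a ha => Subgroup.subset_closure ?_
    rcases ha with ha | ⟨Q₀, hQ₀, f, hf, hfa, hco⟩
    · exact Or.inl (aGens_congr hg ha)
    · refine Or.inr ⟨Q₀, hQ₀, g.symm.trans f, hg.symm.trans hf, ?_, ?_⟩
      · show MulAut.congr (g.symm.trans f) (MulAut.congr g a) ∈ _
        rwa [← congr_congr, congr_symm_congr]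
      · show (orderOf (MulAut.congr g a)).Coprime p
        rwa [orderOf_congr]
  exact hle ha

theorem gam_le_autGroup : h.gam Q ≤ F.autGroup Q := by
  refine (Subgroup.closure_le _).2 fun a ha => ?_
  rcases ha with ha | ⟨Q₀, hQ₀, f, hf, hfa, -⟩
  · exact aGens_le_autGroup h.le ha
  · exact hf.congr_mem_iff.1 (h.liftAut_le_autGroup hQ₀.1 hfa)

theorem gam_conj {b a : MulAut Q} (hQS : Q ≤ S) (hb : b ∈ F.autGroup Q) (ha : a ∈ h.gam Q) :
    b * a * b⁻¹ ∈ h.gam Q := by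
  rw [← congr_eq_conj]
  exact h.gam_congr ((mem_autGroup_iff hQS).1 hb) ha

theorem autInducedBy_le_gam (hQS : Q ≤ S) : autInducedBy (T₁ ⊓ T₂) Q ≤ h.gam Q := fun _ ha =>
  Subgroup.subset_closure (Or.inl (autInducedBy_subset_aGens hQS ha))

theorem gam_le₁ (hQ : Q ≤ T₁ ⊓ T₂) : h.gam Q ≤ D₁.autGroup Q := by
  refine (Subgroup.closure_le _).2 fun a ha => ?_
  rcases ha with ha | ⟨Q₀, hQ₀, f, hf, hfa, -⟩
  · exact aGens_subset_of_invariant h.inv₁ inf_le_left (hQ.trans inf_le_left) ha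
  · have hQ₀T : Q₀ ≤ T₁ := (conj_le h.sc hQ hf.isConj).trans inf_le_left
    have h1 := CfsgLib.FusionQuot.congr_mem_autGroup_of_invariant h.inv₁ hQ₀T
      (hQ.trans inf_le_left) hf.symm (h.liftAut_le₁ hQ₀.1 hQ₀T hfa)
    rwa [congr_symm_congr] at h1

theorem gam_le₂ (hQ : Q ≤ T₁ ⊓ T₂) : h.gam Q ≤ D₂.autGroup Q := by
  refine (Subgroup.closure_le _).2 fun a ha => ?_
  rcases ha with ha | ⟨Q₀, hQ₀, f, hf, hfa, -⟩
  · exact aGens_subset_of_invariant h.inv₂ inf_le_right (hQ.trans inf_le_right) ha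
  · have hQ₀T : Q₀ ≤ T₂ := (conj_le h.sc hQ hf.isConj).trans inf_le_right
    have h1 := CfsgLib.FusionQuot.congr_mem_autGroup_of_invariant h.inv₂ hQ₀T
      (hQ.trans inf_le_right) hf.symm (h.liftAut_le₂ hQ₀.1 hQ₀T hfa)
    rwa [congr_symm_congr] at h1

variable [Finite S] [Fact p.Prime]

theorem liftAut_congr (hQT : Q ≤ T₁ ⊓ T₂) (hQ : F.IsFullyCentralized Q)
    (hR : F.IsFullyCentralized R) {f : Q ≃* R} (hf : IsFIso F f) {a : MulAut Q}
    (ha : a ∈ h.liftAut hQ.1) : MulAut.congr f a ∈ h.liftAut hR.1 := by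
  obtain ⟨g, hg, hgQ, h₁, h₂, h₃⟩ := exists_iso_sup h.grp h.sat hQ hR hf
  obtain ⟨β, hβ, hβx⟩ := ha
  refine ⟨MulAut.congr g β, ⟨congr_mem_sideAut h.le₁ h.inv₁ (hQT.trans inf_le_left) hQ.1 hR.1 hg
    h₁ h₂ (h₃ _ h.sc₁) hβ.1, congr_mem_sideAut h.le₂ h.inv₂ (hQT.trans inf_le_right) hQ.1 hR.1 hg
    h₁ h₂ (h₃ _ h.sc₂) hβ.2⟩, fun y => ?_⟩
  obtain ⟨x, rfl⟩ := f.surjective y
  have e : Subgroup.inclusion le_sup_left (f x) = g (Subgroup.inclusion le_sup_left x) :=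
    Subtype.ext (hgQ x).symm
  rw [e, congr_apply, MulEquiv.symm_apply_apply, hβx, congr_apply, MulEquiv.symm_apply_apply]
  exact Subtype.ext (hgQ (a x))

theorem conjAut_mem_liftAut (hQS : Q ≤ S) (hQT : Q ≤ T₁ ⊓ T₂) {t : Ω} (ht : t ∈ T₁ ⊓ T₂)
    (htN : t ∈ Subgroup.normalizer (Q : Set Ω)) : conjAut Q t htN ∈ h.liftAut hQS := by
  have htS : t ∈ S := h.le ht
  have htW : t ∈ Subgroup.normalizer ((Q ⊔ centralizerIn S Q : Subgroup Ω) : Set Ω) :=
    normalizer_sup_of_mem htN (mem_normalizer_centralizerIn htS htN)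
  exact ⟨conjAut _ t htW, ⟨conjAut_mem_sideAut D₁ h.sc₁ hQS (hQT.trans inf_le_left) ht.1 htN htW,
    conjAut_mem_sideAut D₂ h.sc₂ hQS (hQT.trans inf_le_right) ht.2 htN htW⟩,
    fun x => Subtype.ext rfl⟩

theorem gam_le_liftAut (hQT : Q ≤ T₁ ⊓ T₂) (hQ : F.IsFullyCentralized Q) :
    h.gam Q ≤ h.liftAut hQ.1 := by
  refine (Subgroup.closure_le _).2 fun a ha => ?_
  rcases ha with ⟨Q', f, hf, t, ht, htN, heq⟩ | ⟨Q₀, hQ₀, f, hf, hfa, -⟩
  · obtain ⟨Q₀, hc, hQ₀⟩ := exists_isFullyNormalized F hf.le_right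
    obtain ⟨e, he, ψ, hψ, -, hag⟩ := exists_normalizer_map h.grp h.sat hQ₀ hc
    have hQ₀T : Q₀ ≤ T₁ ⊓ T₂ := conj_le h.sc hQT (isConj_trans hf.isConj he.isConj)
    have htm : t ∈ normalizerIn S Q' := ⟨h.le ht, htN⟩
    have h1 : MulAut.congr (f.trans e) a = conjAut Q₀ (ψ ⟨t, htm⟩)
        (map_mem_normalizer_of_extends _ hag htm htN) := by
      rw [← congr_congr, heq]
      exact congr_conjAut_eq_of_extends _ hag htm htN
    have hψt : ψ ⟨t, htm⟩ ∈ T₁ ⊓ T₂ := stronglyClosed_apply_mem h.sc hψ ⟨t, htm⟩ ht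
    have hfc := isFullyCentralized_of_isFullyNormalized h.grp h.sat hQ₀
    have h2 : MulAut.congr (f.trans e) a ∈ h.liftAut hfc.1 := by
      rw [h1]
      exact h.conjAut_mem_liftAut _ hQ₀T hψt _
    have h3 := h.liftAut_congr hQ₀T hfc hQ (hf.trans he).symm h2
    rwa [congr_symm_congr] at h3
  · have h3 := h.liftAut_congr (conj_le h.sc hQT hf.isConj) hQ₀ hQ hf.symm hfa
    rwa [congr_symm_congr] at h3

theorem mem_gam_of_liftAut (hQ : F.IsFullyCentralized Q) {a : MulAut Q}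
    (ha : a ∈ h.liftAut hQ.1) (hco : (orderOf a).Coprime p) : a ∈ h.gam Q :=
  Subgroup.subset_closure (Or.inr ⟨Q, hQ, MulEquiv.refl Q, IsFIso.refl hQ.1,
    by rwa [congr_refl], hco⟩)

end Setup

end CfsgLib.Fusion.Inter
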