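import Cfsg.Agent.Lib.Fusion.Inter.System
import Cfsg.Agent.Lib.Fusion.Descent
import Cfsg.Agent.Lib.FusionControl.Systems

/-!
# The intersection is normal

The intersection of two normal subsystems is normal in the whole system and in both of them, and it
contains every such subsystem over the intersection of their groups.
-/

set_option autoImplicit false
set_option linter.unusedSectionVars false

namespace CfsgLib.Fusion.Inter

open Cfsg Cfsg.FusionSystem CfsgLib.Fusion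

variable {Ω : Type*} [Group Ω] {S T T' : Subgroup Ω} {F : Cfsg.FusionSystem S} {p : ℕ}
variable {U V : Subgroup Ω}

theorem isFullyCentralized_of_stronglyClosed [Finite S] (hT : F.StronglyClosed T) : F.IsFullyCentralized T :=
  ⟨hT.1, fun Q hQ => by rw [CfsgLib.FusionQuot.eq_of_isConj_of_stronglyClosed hT hQ]⟩

theorem isTC_self [Finite S] (hT : F.StronglyClosed T) : IsTC F T T :=
  ⟨le_rfl, fun R hR => by
    rw [CfsgLib.FusionQuot.eq_of_isConj_of_stronglyClosed hT hR]; exact centralizerIn_le _ _⟩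

theorem mem_of_agree_left (hVU : V ≤ U) {β : MulAut U} {a : MulAut V}
    (h : ∀ x : V, β (Subgroup.inclusion hVU x) = Subgroup.inclusion hVU (a x)) (x : U)
    (hx : (x : Ω) ∈ V) : ((β x : U) : Ω) ∈ V := by
  have h1 : β x = Subgroup.inclusion hVU (a ⟨x, hx⟩) := h ⟨x, hx⟩
  rw [h1]
  exact (a _).2

/-- A displacement into `T` on generators is one everywhere. -/
theorem disp_of_sup (hN : T ⊔ V ≤ Subgroup.normalizer (T : Set Ω)) {β : MulAut ↥(T ⊔ V)}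
    (hT : ∀ x : ↥(T ⊔ V), (x : Ω) ∈ T → ((β x : ↥(T ⊔ V)) : Ω) ∈ T)
    (hV : ∀ c : ↥(T ⊔ V), (c : Ω) ∈ V → (c : Ω)⁻¹ * ((β c : ↥(T ⊔ V)) : Ω) ∈ T)
    (x : ↥(T ⊔ V)) : (x : Ω)⁻¹ * ((β x : ↥(T ⊔ V)) : Ω) ∈ T := by
  let K : Subgroup ↥(T ⊔ V) :=
    { carrier := {x | (x : Ω)⁻¹ * ((β x : ↥(T ⊔ V)) : Ω) ∈ T}
      one_mem' := by simp
      mul_mem' := by
        intro a b ha hb
        show ((a * b : ↥(T ⊔ V)) : Ω)⁻¹ * ((β (a * b) : ↥(T ⊔ V)) : Ω) ∈ T
        rw [map_mul, Subgroup.coe_mul, Subgroup.coe_mul,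
          show ((a : Ω) * b)⁻¹ * (((β a : ↥(T ⊔ V)) : Ω) * ((β b : ↥(T ⊔ V)) : Ω)) =
            ((b : Ω)⁻¹ * ((a : Ω)⁻¹ * ((β a : ↥(T ⊔ V)) : Ω)) * b) *
              ((b : Ω)⁻¹ * ((β b : ↥(T ⊔ V)) : Ω)) by group]
        exact T.mul_mem ((Subgroup.mem_normalizer_iff''.1 (hN b.2) _).1 ha) hb
      inv_mem' := by
        intro a ha
        show ((a⁻¹ : ↥(T ⊔ V)) : Ω)⁻¹ * ((β a⁻¹ : ↥(T ⊔ V)) : Ω) ∈ T
        rw [map_inv, Subgroup.coe_inv, Subgroup.coe_inv, inv_inv,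
          show (a : Ω) * ((β a : ↥(T ⊔ V)) : Ω)⁻¹ =
            (a : Ω) * ((a : Ω)⁻¹ * ((β a : ↥(T ⊔ V)) : Ω))⁻¹ * (a : Ω)⁻¹ by group]
        exact conj_mem_of_mem_normalizer (hN a.2) (T.inv_mem ha) }
  have hle : T ⊔ V ≤ K.map (T ⊔ V).subtype := by
    refine sup_le (fun y hy => ?_) fun y hy => ?_
    · exact ⟨⟨y, Subgroup.mem_sup_left hy⟩, T.mul_mem (T.inv_mem hy) (hT _ hy), rfl⟩
    · exact ⟨⟨y, Subgroup.mem_sup_right hy⟩, hV _ hy, rfl⟩
  obtain ⟨y, hy, hyx⟩ := hle x.2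
  exact (Subtype.ext hyx : y = x) ▸ hy

theorem disp_pow {β : MulAut U} (h : ∀ x : U, (x : Ω)⁻¹ * ((β x : U) : Ω) ∈ T) :
    ∀ (n : ℕ) (x : U), (x : Ω)⁻¹ * (((β ^ n) x : U) : Ω) ∈ T := by
  intro n
  induction n with
  | zero => intro x; simp
  | succ n ih =>
    intro x
    have h1 := T.mul_mem (ih x) (h ((β ^ n) x))
    rwa [mul_assoc, mul_inv_cancel_left, ← MulAut.mul_apply, ← pow_succ'] at h1

/-- Any element of a finite group is generated by its `p`-part and its coprime part. -/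
theorem mem_of_parts {A : Type*} [Group A] [Finite A] [Fact p.Prime] (K : Subgroup A)
    (h1 : ∀ a : A, (∃ k, orderOf a = p ^ k) → a ∈ K)
    (h2 : ∀ a : A, (orderOf a).Coprime p → a ∈ K) (a : A) : a ∈ K := by
  obtain ⟨k, m, hm, he⟩ := Nat.exists_eq_pow_mul_and_not_dvd (orderOf_pos a).ne' p
    (Fact.out : p.Prime).ne_one
  have hco : Nat.Coprime m p := ((Fact.out : p.Prime).coprime_iff_not_dvd.2 hm).symm
  have hp : a ^ m ∈ K := by
    refine h1 _ ((Nat.dvd_prime_pow (Fact.out : p.Prime)).1 (orderOf_dvd_of_pow_eq_one (n := p ^ k)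
      (by rw [← pow_mul, mul_comm m, ← he, pow_orderOf_eq_one])) |>.imp fun j hj => hj.2)
  have hq : a ^ (p ^ k) ∈ K := h2 _ (Nat.Coprime.coprime_dvd_left
    (orderOf_dvd_of_pow_eq_one (n := m) (by rw [← pow_mul, ← he, pow_orderOf_eq_one])) hco)
  have hg := Nat.gcd_eq_gcd_ab m (p ^ k)
  rw [Nat.Coprime.gcd_eq_one (hco.pow_right k)] at hg
  have h3 : a ^ (((m : ℕ) : ℤ) * Nat.gcdA m (p ^ k) + ((p ^ k : ℕ) : ℤ) * Nat.gcdB m (p ^ k)) ∈ K := by
    rw [zpow_add, zpow_mul, zpow_mul, zpow_natCast, zpow_natCast]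
    exact K.mul_mem (K.zpow_mem hp _) (K.zpow_mem hq _)
  rwa [← hg, Nat.cast_one, zpow_one] at h3

/-- The side of a coprime extension lying in an invariant subsystem in which the small system is normal. -/
theorem coprime_side [Finite S] [Fact p.Prime] (hS : IsPGroup p S) {D : Cfsg.FusionSystem T'}
    (hD : D.IsInvariantIn F) (hT : F.StronglyClosed T) (hTT' : T ≤ T') {α : MulAut T}
    {β : MulAut ↥(T ⊔ centralizerIn S T)} (hβ : β ∈ F.autGroup (T ⊔ centralizerIn S T))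
    (hco : (orderOf β).Coprime p)
    (hag : ∀ x : T, β (Subgroup.inclusion le_sup_left x) = Subgroup.inclusion le_sup_left (α x))
    (hd : ∀ x : ↥(T ⊔ centralizerIn S T), (x : Ω)⁻¹ * ((β x : ↥(T ⊔ centralizerIn S T)) : Ω) ∈ T)
    (hψ : ∃ ψ ∈ D.autGroup (T ⊔ centralizerIn T' T),
      (∀ x : T, ((ψ (Subgroup.inclusion le_sup_left x) : ↥(T ⊔ centralizerIn T' T)) : Ω) =
        ((α x : T) : Ω)) ∧
      ∀ c : ↥(T ⊔ centralizerIn T' T), (c : Ω) ∈ centralizerIn T' T →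
        (c : Ω)⁻¹ * ((ψ c : ↥(T ⊔ centralizerIn T' T)) : Ω) ∈ T ⊓ Subgroup.centralizer (T : Set Ω)) :
    β ∈ sideAut F D hD.2.1.1 hT.1 := by
  obtain ⟨ψ, hψ, hψT, hψd⟩ := hψ
  have hle := sup_cen_mono (Q := T) hD.2.1.1
  have hUT' : T ⊔ centralizerIn T' T ≤ T' := sup_le hTT' (centralizerIn_le _ _)
  have hWS := sup_centralizerIn_le (Q := T) hT.1
  have hmap : ∀ x, ((T ⊔ centralizerIn S T).subtype.comp β.toMonoidHom)
      (Subgroup.inclusion hle x) ∈ T ⊔ centralizerIn T' T := fun x => by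
    have := mul_mem x.2 (le_sup_left (b := centralizerIn T' T) (hd (Subgroup.inclusion hle x)))
    rwa [Subgroup.coe_inclusion, mul_inv_cancel_left] at this
  obtain ⟨γ, hγ, hγx⟩ := LayerCore.exists_aut_of_mapsTo
    (restrict_mem ((mem_autGroup_iff_hom hWS).1 hβ) hle) hmap
  have hag' : ∀ v : ↥(T ⊔ centralizerIn T' T),
      β (Subgroup.inclusion hle v) = Subgroup.inclusion hle (γ v) := fun v =>
    Subtype.ext (hγx v).symm
  have hN : T ⊔ centralizerIn T' T ≤ Subgroup.normalizer (T : Set Ω) :=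
    (hle.trans hWS).trans (stronglyClosed_le_normalizer hT)
  have hdψ : ∀ x : ↥(T ⊔ centralizerIn T' T),
      (x : Ω)⁻¹ * ((ψ x : ↥(T ⊔ centralizerIn T' T)) : Ω) ∈ T :=
    disp_of_sup hN (fun x hx => by
      have h1 : ((ψ x : ↥(T ⊔ centralizerIn T' T)) : Ω) = _ := hψT ⟨x, hx⟩
      rw [h1]
      exact (α _).2) fun c hc => (hψd c hc).1
  have hγD : γ ∈ D.autGroup (T ⊔ centralizerIn T' T) := by
    refine coprime_mem_of_agree hS hD hUT' hγ (coprime_of_agree hle hag' hco) hψ (V := T)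
      (fun x hx => Subtype.ext ?_) fun x => ?_
    · refine (hγx x).trans (((congrArg Subtype.val (hag ⟨x, hx⟩)).trans ?_))
      exact (hψT ⟨x, hx⟩).symm
    · have h1 : (x : Ω)⁻¹ * ((γ x : ↥(T ⊔ centralizerIn T' T)) : Ω) ∈ T := by
        rw [hγx]
        exact hd (Subgroup.inclusion hle x)
      have h2 := T.inv_mem (hdψ ((ψ⁻¹ : MulAut _) (γ x)))
      rw [MulAut.apply_inv_self, mul_inv_rev, inv_inv] at h2
      have h3 := T.mul_mem h1 h2
      rw [mul_assoc, mul_inv_cancel_left] at h3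
      exact h3
  refine mem_sideAut.2 ⟨hβ, fun x => ⟨fun hx => ?_, fun hx => ?_⟩, fun c _ => hTT' (hd c),
    γ, hγD, hag'⟩
  · have := T.mul_mem hx (T.inv_mem (hd x))
    rwa [mul_inv_rev, inv_inv, mul_inv_cancel_left] at this
  · exact mem_of_agree_left le_sup_left hag x hx

namespace Setup

variable {T₁ T₂ : Subgroup Ω} {D₁ : Cfsg.FusionSystem T₁} {D₂ : Cfsg.FusionSystem T₂}
variable (h : Setup F D₁ D₂ p)
include h

variable [Finite S] [Fact p.Prime]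

theorem autGroup_inter_top : h.inter.autGroup (T₁ ⊓ T₂) = h.gam (T₁ ⊓ T₂) :=
  h.autGroup_inter_eq (isTC_self h.sc)

theorem exists_lift_top {α : MulAut ↥(T₁ ⊓ T₂)} (hα : α ∈ h.inter.autGroup (T₁ ⊓ T₂)) :
    ∃ β ∈ sideAut F D₁ h.le₁ h.le ⊓ sideAut F D₂ h.le₂ h.le,
      (∀ x : ↥(T₁ ⊓ T₂), β (Subgroup.inclusion le_sup_left x) =
        Subgroup.inclusion le_sup_left (α x)) ∧
      ∀ c : ↥(T₁ ⊓ T₂ ⊔ centralizerIn S (T₁ ⊓ T₂)), (c : Ω) ∈ centralizerIn S (T₁ ⊓ T₂) →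
        (c : Ω)⁻¹ * ((β c : ↥(T₁ ⊓ T₂ ⊔ centralizerIn S (T₁ ⊓ T₂))) : Ω) ∈
          (T₁ ⊓ T₂) ⊓ Subgroup.centralizer ((T₁ ⊓ T₂ : Subgroup Ω) : Set Ω) := by
  rw [h.autGroup_inter_top] at hα
  obtain ⟨β, hβ, hβx⟩ := h.gam_le_liftAut le_rfl (isFullyCentralized_of_stronglyClosed h.sc) hα
  obtain ⟨-, hst, hd₁, -⟩ := mem_sideAut.1 hβ.1
  obtain ⟨-, -, hd₂, -⟩ := mem_sideAut.1 hβ.2
  refine ⟨β, hβ, hβx, fun c hc => ⟨⟨hd₁ c hc, hd₂ c hc⟩, ?_⟩⟩
  exact Subgroup.mul_mem _ (Subgroup.inv_mem _ hc.2)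
    (cen_mem (sup_centralizerIn_le h.le) le_sup_left hst hc).2

theorem inter_isWeaklyNormalIn : h.inter.IsWeaklyNormalIn F p :=
  ⟨h.inter_isSaturated, h.sat, h.inter_isInvariantIn⟩

/-- The intersection is normal in the whole system. -/
theorem inter_isNormalIn : h.inter.IsNormalIn F p := by
  refine ⟨h.inter_isWeaklyNormalIn, fun α hα => ?_⟩
  obtain ⟨β, hβ, hβx, hd⟩ := h.exists_lift_top hα
  exact ⟨β, (mem_sideAut.1 hβ.1).1, fun x => congrArg Subtype.val (hβx x), hd⟩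

theorem inter_sub₁ : h.inter.IsSubsystemOf D₁ := fun P _ hφ =>
  (h.genSys_le (E := CfsgLib.FusionControl.restrictSystem D₁ inf_le_left) (fun Y hY _ a ha =>
    (mem_autGroup_iff_hom hY.1).2 ⟨(mem_autGroup_iff_hom (hY.1.trans inf_le_left)).1
      (h.gam_le₁ hY.1 ha), hY.1, fun x => hY.1 (a x).2⟩) P hφ).1

theorem inter_sub₂ : h.inter.IsSubsystemOf D₂ := fun P _ hφ =>
  (h.genSys_le (E := CfsgLib.FusionControl.restrictSystem D₂ inf_le_right) (fun Y hY _ a ha =>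
    (mem_autGroup_iff_hom hY.1).2 ⟨(mem_autGroup_iff_hom (hY.1.trans inf_le_right)).1
      (h.gam_le₂ hY.1 ha), hY.1, fun x => hY.1 (a x).2⟩) P hφ).1

theorem inter_isNormalIn_side {T' : Subgroup Ω} {D : Cfsg.FusionSystem T'}
    (hD : D.IsWeaklyNormalIn F p) (hle : T₁ ⊓ T₂ ≤ T') (hsub : h.inter.IsSubsystemOf D)
    (hside : ∀ β ∈ sideAut F D₁ h.le₁ h.le ⊓ sideAut F D₂ h.le₂ h.le,
      β ∈ sideAut F D hD.2.2.2.1.1 h.le) :
    h.inter.IsNormalIn D p := by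
  have hT'S : T' ≤ S := hD.2.2.2.1.1
  have : Finite T' := finite_of_le hT'S
  have hT'p : IsPGroup p T' := h.grp.to_le hT'S
  have hsc : D.StronglyClosed (T₁ ⊓ T₂) :=
    ⟨hle, fun Q hQ φ hφ => h.sc.2 Q hQ φ (hD.2.2.1 Q hφ)⟩
  have hinv : h.inter.IsInvariantIn D :=
    (isInvariantIn_iff_stronglyInvariant hT'p hD.1 hsub hsc).2
      fun P Q hPQ hQ φ hφ hφQ ψ hψ =>
        h.inter_stronglyInvariant P Q hPQ hQ φ hφ hφQ ψ (hD.2.2.1 Q hψ)
  refine ⟨⟨h.inter_isSaturated, hD.1, hinv⟩, fun α hα => ?_⟩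
  obtain ⟨β, hβ, hβx, hd⟩ := h.exists_lift_top hα
  obtain ⟨-, -, -, γ, hγ, hag⟩ := mem_sideAut.1 (hside β hβ)
  refine ⟨γ, hγ, fun x => ?_, fun c hc => ?_⟩
  · exact congrArg Subtype.val ((hag (Subgroup.inclusion le_sup_left x)).symm.trans (hβx x))
  · have h1 := hd (Subgroup.inclusion (sup_cen_mono hT'S) c) ⟨hT'S hc.1, hc.2⟩
    rw [hag] at h1
    exact h1

theorem inter_isNormalIn₁ : h.inter.IsNormalIn D₁ p :=
  h.inter_isNormalIn_side h.nor₁ inf_le_left h.inter_sub₁ fun _ hβ => hβ.1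

theorem inter_isNormalIn₂ : h.inter.IsNormalIn D₂ p :=
  h.inter_isNormalIn_side h.nor₂ inf_le_right h.inter_sub₂ fun _ hβ => hβ.2

/-- A system over the intersection normal in all three lies in the intersection. -/
theorem le_inter {D' : Cfsg.FusionSystem (T₁ ⊓ T₂)} (hF : D'.IsNormalIn F p)
    (h₁ : D'.IsNormalIn D₁ p) (h₂ : D'.IsNormalIn D₂ p) : D'.IsSubsystemOf h.inter := by
  have : Finite ↥(T₁ ⊓ T₂) := finite_of_le h.le
  have hTp : IsPGroup p ↥(T₁ ⊓ T₂) := h.grp.to_le h.le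
  have hTS := h.le
  refine Descent.hom_le_of_aut_centric hTp hF.1.1 fun Q hQ _ hbig => ?_
  have hQT : Q ≤ T₁ ⊓ T₂ := hQ.1
  have : Finite Q := finite_of_le hQT
  have : Finite (MulAut Q) := finite_mulAut
  obtain ⟨hfa, P, hP⟩ := isFullyAutomized_of_isFullyNormalized hTp hF.1.1 hQ
  rcases eq_or_lt_of_le hQT with rfl | hlt
  · intro α hα
    suffices hh : ∀ a : D'.autGroup (T₁ ⊓ T₂), a ∈
        (h.inter.autGroup (T₁ ⊓ T₂)).subgroupOf (D'.autGroup (T₁ ⊓ T₂)) from hh ⟨α, hα⟩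
    refine mem_of_parts (p := p) _ (fun a ⟨k, hk⟩ => ?_) fun a ha => ?_
    · have hpg : IsPGroup p (Subgroup.zpowers a) :=
        IsPGroup.of_card (n := k) (by rw [Nat.card_zpowers, hk])
      obtain ⟨g, hg⟩ := exists_conj_le_sylow P hpg
      have h1 := hg a (Subgroup.mem_zpowers a)
      rw [hP] at h1
      have h2 := autInducedBy_le_autGroup h.inter le_rfl (h1 : ((g * a * g⁻¹ : D'.autGroup _) :
        MulAut _) ∈ autInducedBy (T₁ ⊓ T₂) (T₁ ⊓ T₂))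
      have h3 := CfsgLib.FusionQuot.conj_mem_autGroup_of_invariant h.inter_isInvariantIn le_rfl
        (inv_mem (CfsgLib.FusionQuot.autGroup_le_of_subsystem hF.1.2.2.1 _ g.2)) h2
      simpa [Subgroup.mem_subgroupOf, mul_assoc] using h3
    · set α := (a : MulAut ↥(T₁ ⊓ T₂)) with hαdef
      have hco : (orderOf α).Coprime p := by rwa [hαdef, Subgroup.orderOf_coe]
      obtain ⟨β, hβ, hβT, hβd⟩ := hF.2 α a.2
      have hag : ∀ x : ↥(T₁ ⊓ T₂), β (Subgroup.inclusion le_sup_left x) =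
          Subgroup.inclusion le_sup_left (α x) := fun x => Subtype.ext (hβT x)
      have hd : ∀ x : ↥(T₁ ⊓ T₂ ⊔ centralizerIn S (T₁ ⊓ T₂)), (x : Ω)⁻¹ *
          ((β x : ↥(T₁ ⊓ T₂ ⊔ centralizerIn S (T₁ ⊓ T₂))) : Ω) ∈ T₁ ⊓ T₂ :=
        disp_of_sup ((sup_centralizerIn_le hTS).trans (stronglyClosed_le_normalizer h.sc))
          (fun x hx => mem_of_agree_left le_sup_left hag x hx) fun c hc => (hβd c hc).1
      have : Finite ↥(T₁ ⊓ T₂ ⊔ centralizerIn S (T₁ ⊓ T₂)) :=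
        finite_of_le (sup_centralizerIn_le hTS)
      obtain ⟨n, hnco, hnag⟩ := exists_coprime_pow le_sup_left hco β hag
      have hmem : α ∈ h.liftAut hTS := ⟨β ^ n,
        ⟨coprime_side h.grp h.inv₁ h.sc inf_le_left (pow_mem hβ n) hnco hnag (disp_pow hd n)
          (h₁.2 α a.2),
        coprime_side h.grp h.inv₂ h.sc inf_le_right (pow_mem hβ n) hnco hnag (disp_pow hd n)
          (h₂.2 α a.2)⟩, hnag⟩
      exact h.gam_le_inter (isTC_self h.sc)
        (h.mem_gam_of_liftAut (isFullyCentralized_of_stronglyClosed h.sc) hmem hco)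
  · set N := (h.inter.autGroup Q).subgroupOf (D'.autGroup Q) with hN
    have : N.Normal := ⟨fun c hc g => CfsgLib.FusionQuot.conj_mem_autGroup_of_invariant
      h.inter_isInvariantIn hQT (CfsgLib.FusionQuot.autGroup_le_of_subsystem hF.1.2.2.1 Q g.2) hc⟩
    have hPN : (P : Subgroup (D'.autGroup Q)) ≤ N := by
      rw [hP]
      exact fun x hx => autInducedBy_le_autGroup h.inter hQT hx
    intro α hα
    have htop := Sylow.normalizer_sup_eq_top' P hPN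
    have hm : (⟨α, hα⟩ : D'.autGroup Q) ∈
        (↑(Subgroup.normalizer (P : Set (D'.autGroup Q)) ⊔ N) : Set _) := by
      rw [htop]; trivial
    rw [Subgroup.mul_normal] at hm
    obtain ⟨b, hb, c, hc, hbc⟩ := hm
    have hb' : (b : MulAut Q) ∈ h.inter.autGroup Q :=
      Descent.aut_mem_of_normalize hTp (isReceptive_of_isFullyNormalized hTp hF.1.1 hQ) hlt hbig b.2
        fun x hx => by
          have hxP : (⟨x, autInducedBy_le_autGroup D' hQT hx⟩ : D'.autGroup Q) ∈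
              (P : Subgroup (D'.autGroup Q)) := by rw [hP]; exact hx
          have h1 := conj_mem_of_mem_normalizer hb hxP
          rw [hP] at h1
          exact h1
    have h1 : ((b * c : D'.autGroup Q) : MulAut Q) ∈ h.inter.autGroup Q := mul_mem hb' hc
    have h2 : b * c = (⟨α, hα⟩ : D'.autGroup Q) := hbc
    rwa [h2] at h1

end Setup

/-- The greatest common normal subsystem over the intersection. -/
theorem exists_inter [Finite S] [Fact p.Prime] (hS : IsPGroup p S) (hF : F.IsSaturated p)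
    {T₁ T₂ : Subgroup Ω} {D₁ : Cfsg.FusionSystem T₁} {D₂ : Cfsg.FusionSystem T₂}
    (h₁ : D₁.IsNormalIn F p) (h₂ : D₂.IsNormalIn F p) :
    ∃ D : Cfsg.FusionSystem (T₁ ⊓ T₂),
      (D.IsNormalIn F p ∧ D.IsNormalIn D₁ p ∧ D.IsNormalIn D₂ p) ∧
      ∀ D' : Cfsg.FusionSystem (T₁ ⊓ T₂), D'.IsNormalIn F p → D'.IsNormalIn D₁ p →
        D'.IsNormalIn D₂ p → D'.IsSubsystemOf D :=
  have h : Setup F D₁ D₂ p := ⟨hS, hF, h₁.1, h₂.1⟩
  ⟨h.inter, ⟨h.inter_isNormalIn, h.inter_isNormalIn₁, h.inter_isNormalIn₂⟩,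
    fun _ hF' h₁' h₂' => h.le_inter hF' h₁' h₂'⟩

end CfsgLib.Fusion.Inter
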