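import Cfsg.Agent.Lib.Fusion.Inter.Basic
import Mathlib.GroupTheory.Focal

/-!
# Sylow subgroups of the automizers of an intersection

For `P` fully centralized the automorphisms of `P C_S(P)` fixing `P` have `Aut_{C_S(P)}` as a
Sylow subgroup; for `P` fully normalized `Aut_T(P)` is a Sylow subgroup of `gam P`.
-/

set_option autoImplicit false
set_option linter.unusedSectionVars false

namespace CfsgLib.Fusion.Inter

open Cfsg Cfsg.FusionSystem CfsgLib.Fusion CfsgLib.Fusion.SatCriterion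
open scoped commutatorElement

variable {Ω : Type*} [Group Ω] {S T : Subgroup Ω} {F : Cfsg.FusionSystem S} {p : ℕ}
variable {P Q R U V W X : Subgroup Ω}

/-! ### Generalities -/

theorem eq_of_agree_sup {A : Type*} [Group A] {f g : ↥(P ⊔ Q) →* A}
    (hP : ∀ x : P, f (Subgroup.inclusion le_sup_left x) = g (Subgroup.inclusion le_sup_left x))
    (hQ : ∀ x : Q, f (Subgroup.inclusion le_sup_right x) = g (Subgroup.inclusion le_sup_right x)) :
    ∀ w, f w = g w := by
  have h : P ⊔ Q ≤ (f.eqLocus g).map (P ⊔ Q).subtype :=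
    sup_le (fun x hx => ⟨⟨x, Subgroup.mem_sup_left hx⟩, hP ⟨x, hx⟩, rfl⟩)
      fun x hx => ⟨⟨x, Subgroup.mem_sup_right hx⟩, hQ ⟨x, hx⟩, rfl⟩
  intro w
  obtain ⟨v, hv, hvw⟩ := h w.2
  exact Subtype.ext hvw ▸ hv

theorem aut_eq_one_of_sup {β : MulAut ↥(P ⊔ Q)}
    (hP : ∀ x : P, β (Subgroup.inclusion le_sup_left x) = Subgroup.inclusion le_sup_left x)
    (hQ : ∀ x : Q, β (Subgroup.inclusion le_sup_right x) = Subgroup.inclusion le_sup_right x) :
    β = 1 :=
  MulEquiv.ext fun w =>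
    eq_of_agree_sup (f := β.toMonoidHom) (g := MonoidHom.id _) hP hQ w

/-- A coprime power with the same restriction. -/
theorem exists_coprime_pow [Finite W] [Fact p.Prime] (hQW : Q ≤ W) {a : MulAut Q}
    (ha : (orderOf a).Coprime p) (β : MulAut W)
    (h : ∀ x : Q, β (Subgroup.inclusion hQW x) = Subgroup.inclusion hQW (a x)) :
    ∃ n : ℕ, (orderOf (β ^ n)).Coprime p ∧
      ∀ x : Q, (β ^ n) (Subgroup.inclusion hQW x) = Subgroup.inclusion hQW (a x) := by
  have : Finite (MulAut W) := finite_mulAut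
  obtain ⟨k, hk⟩ := CfsgLib.Transfer.exists_pow_coprime_orderOf (p := p) β
  obtain ⟨m, hm⟩ := exists_pow_eq_self_of_coprime
    (Nat.Coprime.pow_left k ha.symm : Nat.Coprime (p ^ k) (orderOf a))
  refine ⟨p ^ k * m, ?_, fun x => ?_⟩
  · rw [pow_mul]
    exact Nat.Coprime.coprime_dvd_left (orderOf_pow_dvd m) hk
  · rw [← pow_mul] at hm
    rw [LayerCore.pow_agree hQW β a h, hm]

/-- The order of a restriction divides the order. -/
theorem coprime_of_agree (hQW : Q ≤ W) {a : MulAut Q} {β : MulAut W}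
    (h : ∀ x : Q, β (Subgroup.inclusion hQW x) = Subgroup.inclusion hQW (a x))
    (hβ : (orderOf β).Coprime p) : (orderOf a).Coprime p := by
  refine Nat.Coprime.coprime_dvd_left (orderOf_dvd_of_pow_eq_one (MulEquiv.ext fun x => ?_)) hβ
  refine Subgroup.inclusion_injective hQW ?_
  rw [← LayerCore.pow_agree hQW β a h, pow_orderOf_eq_one]
  rfl

/-- Bound on a subgroup through a homomorphism. -/
theorem card_le_of_hom {G H : Type*} [Group G] [Group H] [Finite G] (f : G →* H) {V U : Subgroup G}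
    (h1 : V.map f ≤ U.map f) (h2 : Nat.card ↥(V ⊓ f.ker) ≤ Nat.card ↥(U ⊓ f.ker)) :
    Nat.card V ≤ Nat.card U := by
  have key : ∀ V : Subgroup G, Nat.card V = Nat.card (V.map f) * Nat.card ↥(V ⊓ f.ker) := by
    intro V
    rw [Subgroup.card_eq_card_quotient_mul_card_subgroup (f.comp V.subtype).ker,
      Nat.card_congr (QuotientGroup.quotientKerEquivRange (f.comp V.subtype)).toEquiv,
      MonoidHom.range_comp, Subgroup.range_subtype]
    congr 1
    refine (Nat.card_congr ?_)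
    exact { toFun := fun x => ⟨((x : V) : G), (x : V).2, x.2⟩
            invFun := fun x => ⟨⟨x, x.2.1⟩, x.2.2⟩
            left_inv := fun x => rfl
            right_inv := fun x => rfl }
  rw [key V, key U]
  have : Finite (U.map f) := by
    rw [← Subgroup.range_subtype U, ← MonoidHom.range_comp]
    exact Finite.of_surjective _ (f.comp U.subtype).rangeRestrict_surjective
  exact Nat.mul_le_mul (Subgroup.card_le_of_le h1) h2

theorem mem_normalizer_of_conjAut_mem_setStab (hUR : U ≤ R) {g : Ω}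
    (hg : g ∈ Subgroup.normalizer (R : Set Ω)) (h : conjAut R g hg ∈ setStab R U) :
    g ∈ Subgroup.normalizer (U : Set Ω) :=
  mem_normalizer_of_forall (α := resHom hUR ⟨_, h⟩) fun _ => rfl

theorem conjAut_mul {g k : Ω} (hg : g ∈ Subgroup.normalizer (P : Set Ω))
    (hk : k ∈ Subgroup.normalizer (P : Set Ω)) :
    conjAut P g hg * conjAut P k hk = conjAut P (g * k) (mul_mem hg hk) :=
  (map_mul P.normalizerMonoidHom ⟨g, hg⟩ ⟨k, hk⟩).symm

theorem conjAut_inv {g : Ω} (hg : g ∈ Subgroup.normalizer (P : Set Ω)) :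
    (conjAut P g hg)⁻¹ = conjAut P g⁻¹ (inv_mem hg) :=
  (map_inv P.normalizerMonoidHom ⟨g, hg⟩).symm

/-! ### `P C_S(P)` -/

theorem isCentric_sup [Finite S] [Fact p.Prime] (hS : IsPGroup p S) (hF : F.IsSaturated p)
    (hP : F.IsFullyCentralized P) : F.IsCentric (P ⊔ centralizerIn S P) := by
  refine ⟨sup_centralizerIn_le hP.1, fun W' hW' => ?_⟩
  obtain ⟨φ, hφ, rfl⟩ := hW'
  have hres := restrict_mem hφ (le_sup_left : P ≤ P ⊔ centralizerIn S P)
  set P' := (φ.comp (Subgroup.inclusion (le_sup_left : P ≤ P ⊔ centralizerIn S P))).range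
  have hc : F.IsConj P P' := isConj_of_mem hres
  have : Finite (centralizerIn S P') := finite_of_le (centralizerIn_le S P')
  have hP'le : P' ≤ φ.range := by
    rintro _ ⟨x, rfl⟩
    exact ⟨_, rfl⟩
  have hmem : ∀ c : centralizerIn S P, φ (Subgroup.inclusion le_sup_right c) ∈ centralizerIn S P' := by
    intro c
    refine ⟨map_mem hφ _, Subgroup.mem_centralizer_iff.2 ?_⟩
    rintro _ ⟨x, rfl⟩
    show φ (Subgroup.inclusion le_sup_left x) * _ = _ * φ (Subgroup.inclusion le_sup_left x)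
    rw [← map_mul, ← map_mul]
    exact congrArg φ (Subtype.ext (Subgroup.mem_centralizer_iff.1 c.2.2 x x.2))
  have hsurj : Function.Bijective (fun c : centralizerIn S P =>
      (⟨_, hmem c⟩ : centralizerIn S P')) := by
    refine (Nat.bijective_iff_injective_and_card _).2 ⟨fun a b h => ?_, ?_⟩
    · exact Subgroup.inclusion_injective le_sup_right (hom_inj hφ (Subtype.ext_iff.1 h :))
    · refine le_antisymm ?_ (hP.2 P' hc)
      exact Nat.card_le_card_of_injective (fun c => (⟨_, hmem c⟩ : centralizerIn S P')) fun a b h =>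
        Subgroup.inclusion_injective le_sup_right (hom_inj hφ (Subtype.ext_iff.1 h :))
  intro y hy
  have hy' : y ∈ centralizerIn S P' :=
    ⟨hy.1, Subgroup.centralizer_le (SetLike.coe_subset_coe.2 hP'le) hy.2⟩
  obtain ⟨c, hc'⟩ := hsurj.2 ⟨y, hy'⟩
  exact ⟨_, Subtype.ext_iff.1 hc'⟩

theorem normalizer_sup_centralizerIn {g : Ω} (hgS : g ∈ S)
    (hg : g ∈ Subgroup.normalizer (P : Set Ω)) :
    g ∈ Subgroup.normalizer ((P ⊔ centralizerIn S P : Subgroup Ω) : Set Ω) :=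
  normalizer_sup_of_mem hg (mem_normalizer_centralizerIn hgS hg)

/-- Extension of an automorphism of a centric subgroup to a group of elements normalizing it. -/
theorem exists_ext_aut [Finite S] [Fact p.Prime] (hS : IsPGroup p S) (hF : F.IsSaturated p)
    (hW : F.IsCentric W) {β : MulAut W} (hβ : β ∈ F.autGroup W) (hWX : W ≤ X)
    (hX : X ≤ normalizerIn S W)
    (hact : ∀ g (hg : g ∈ X), β * conjAut W g (hX hg).2 * β⁻¹ ∈ autInducedBy S W) :
    ∃ ψ ∈ F.Hom X, (∀ w : W, ψ ⟨w, hWX w.2⟩ = ((β w : W) : Ω)) ∧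
      ∀ g (hg : g ∈ X), ∃ hN : ψ ⟨g, hg⟩ ∈ Subgroup.normalizer (W : Set Ω),
        conjAut W (ψ ⟨g, hg⟩) hN = β * conjAut W g (hX hg).2 * β⁻¹ := by
  obtain ⟨ψ, hψ, -, hag⟩ := ((mem_autGroup_iff hW.1).1 hβ).exists_extension
    (isReceptive_of_isCentric hS hF hW) hWX hX fun g hg => by
      rw [congr_eq_conj]
      exact hact g hg
  refine ⟨ψ, hψ, hag, fun g hg =>
    ⟨map_mem_normalizer_of_extends (e := (β : W ≃* W)) hWX hag hg (hX hg).2, ?_⟩⟩
  rw [← congr_conjAut_eq_of_extends (e := (β : W ≃* W)) hWX hag hg (hX hg).2, congr_eq_conj]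

/-- The automorphisms of `P C_S(P)` in the system fixing `P` pointwise. -/
def cenFix (F : Cfsg.FusionSystem S) (P : Subgroup Ω) :
    Subgroup (MulAut ↥(P ⊔ centralizerIn S P)) where
  carrier := {β | β ∈ F.autGroup (P ⊔ centralizerIn S P) ∧
    ∀ x : P, β (Subgroup.inclusion le_sup_left x) = Subgroup.inclusion le_sup_left x}
  one_mem' := ⟨one_mem _, fun _ => rfl⟩
  mul_mem' := by
    rintro β γ ⟨hβ, hβx⟩ ⟨hγ, hγx⟩
    exact ⟨mul_mem hβ hγ, fun x => by rw [MulAut.mul_apply, hγx, hβx]⟩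
  inv_mem' := by
    rintro β ⟨hβ, hβx⟩
    exact ⟨inv_mem hβ, fun x => β.injective (by rw [MulAut.apply_inv_self, hβx])⟩

theorem mem_cenFix {β : MulAut ↥(P ⊔ centralizerIn S P)} :
    β ∈ cenFix F P ↔ β ∈ F.autGroup (P ⊔ centralizerIn S P) ∧
      ∀ x : P, β (Subgroup.inclusion le_sup_left x) = Subgroup.inclusion le_sup_left x := Iff.rfl

theorem cenFix_setStab {β : MulAut ↥(P ⊔ centralizerIn S P)} (hβ : β ∈ cenFix F P) :
    β ∈ setStab (P ⊔ centralizerIn S P) P := by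
  intro x
  constructor
  · intro h
    have h1 := hβ.2 ⟨_, h⟩
    rw [show x = Subgroup.inclusion le_sup_left (⟨_, h⟩ : P) from β.injective (h1.trans rfl).symm]
    exact h
  · intro h
    have h1 := hβ.2 ⟨_, h⟩
    rw [show β x = Subgroup.inclusion le_sup_left (⟨(x : Ω), h⟩ : P) from h1]
    exact h

theorem setStab_cen (hPS : P ≤ S) {β : MulAut ↥(P ⊔ centralizerIn S P)}
    (hst : β ∈ setStab (P ⊔ centralizerIn S P) P) :
    β ∈ setStab (P ⊔ centralizerIn S P) (centralizerIn S P) := by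
  intro x
  refine ⟨fun h => ?_, fun h => cen_mem (sup_centralizerIn_le hPS) le_sup_left hst h⟩
  have h1 := cen_mem (sup_centralizerIn_le hPS) le_sup_left
    ((setStab (P ⊔ centralizerIn S P) P).inv_mem hst) h
  rwa [MulAut.inv_apply_self] at h1

theorem conjAut_mem_cenFix (hPS : P ≤ S) {c : Ω} (hc : c ∈ centralizerIn S P)
    (hn : c ∈ Subgroup.normalizer ((P ⊔ centralizerIn S P : Subgroup Ω) : Set Ω)) :
    conjAut _ c hn ∈ cenFix F P := by
  refine ⟨autInducedBy_le_autGroup F (sup_centralizerIn_le hPS) (conjAut_mem_autInducedBy hc.1 hn),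
    fun x => Subtype.ext ?_⟩
  show c * (x : Ω) * c⁻¹ = x
  rw [← Subgroup.mem_centralizer_iff.1 hc.2 x x.2, mul_inv_cancel_right]

theorem autInducedBy_cen_le_cenFix (hPS : P ≤ S) :
    autInducedBy (centralizerIn S P) (P ⊔ centralizerIn S P) ≤ cenFix F P := fun α hα => by
  obtain ⟨c, hn, hc, rfl⟩ := exists_eq_conjAut hα
  exact conjAut_mem_cenFix hPS hc hn

variable [Finite S] [Fact p.Prime]

theorem cenFix_card_le (hS : IsPGroup p S) (hF : F.IsSaturated p) (hP : F.IsFullyCentralized P)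
    {V : Subgroup (MulAut ↥(P ⊔ centralizerIn S P))} (hV : IsPGroup p V) (hVK : V ≤ cenFix F P) :
    Nat.card V ≤ Nat.card (autInducedBy (centralizerIn S P) (P ⊔ centralizerIn S P)) := by
  have hCS : centralizerIn S P ≤ S := centralizerIn_le S P
  have : Finite (centralizerIn S P) := finite_of_le hCS
  have : Finite (MulAut (centralizerIn S P)) := finite_mulAut
  have : Finite ↥(P ⊔ centralizerIn S P) := finite_of_le (sup_centralizerIn_le hP.1)
  have : Finite (MulAut ↥(P ⊔ centralizerIn S P)) := finite_mulAut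
  have hCp : IsPGroup p (centralizerIn S P) := hS.to_le hCS
  set CS := centralizerSystem F P hP.1
  have hCs : CS.IsSaturated p := isSaturated_centralizerSystem hS hF hP
    (isCentralizerSystem_centralizerSystem F P hP.1)
  obtain ⟨-, TS, hTS⟩ := isFullyAutomized_of_isFullyNormalized hCp hCs (isFullyNormalized_top CS)
  have hle : autInducedBy (centralizerIn S P) (centralizerIn S P) ≤
      CS.autGroup (centralizerIn S P) :=
    autInducedBy_le_autGroup CS le_rfl
  set res : cenFix F P →* MulAut (centralizerIn S P) :=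
    (resHom (le_sup_right : centralizerIn S P ≤ P ⊔ centralizerIn S P)).comp
      ((cenFix F P).subtype.codRestrict _ fun β => setStab_cen hP.1 (cenFix_setStab β.2))
  have hres : ∀ (β : cenFix F P) (c : centralizerIn S P),
      ((res β c : centralizerIn S P) : Ω) =
        ((β : MulAut ↥(P ⊔ centralizerIn S P))
          (Subgroup.inclusion (le_sup_right : centralizerIn S P ≤ P ⊔ centralizerIn S P) c) : Ω) :=
    fun β c => rfl
  have hinj : Function.Injective res := (injective_iff_map_eq_one res).2 fun β hβ => by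
    refine Subtype.ext (aut_eq_one_of_sup β.2.2 fun c => Subtype.ext ?_)
    rw [← hres, hβ]
    rfl
  have himg : ∀ β : cenFix F P, res β ∈ CS.autGroup (centralizerIn S P) := fun β => by
    have hh := (mem_autGroup_iff_hom (sup_centralizerIn_le hP.1)).1 β.2.1
    refine (mem_autGroup_iff_hom le_rfl).2 ⟨(mem_autGroup_iff_hom hCS).1
      (resHom_mem_autGroup (le_sup_right : centralizerIn S P ≤ P ⊔ centralizerIn S P)
        (sup_centralizerIn_le hP.1) _ β.2.1), le_rfl, fun c => (res β c).2, _,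
      restrict_mem hh (sup_comm (centralizerIn S P) P).le, fun c => (hres β c).symm, fun x => ?_⟩
    exact congrArg Subtype.val (β.2.2 x)
  set U := autInducedBy (centralizerIn S P) (P ⊔ centralizerIn S P) with hU
  have hsurj : autInducedBy (centralizerIn S P) (centralizerIn S P) ≤
      (U.subgroupOf (cenFix F P)).map res := by
    intro α hα
    obtain ⟨c, hn, hc, rfl⟩ := exists_eq_conjAut hα
    have hn' : c ∈ Subgroup.normalizer ((P ⊔ centralizerIn S P : Subgroup Ω) : Set Ω) :=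
      Subgroup.le_normalizer (Subgroup.mem_sup_right hc)
    exact ⟨⟨_, conjAut_mem_cenFix hP.1 hc hn'⟩, conjAut_mem_autInducedBy hc hn',
      MulEquiv.ext fun x => Subtype.ext rfl⟩
  calc Nat.card V = Nat.card ((V.subgroupOf (cenFix F P)).map res) := by
        rw [Subgroup.card_map_of_injective hinj,
          Nat.card_congr (Subgroup.subgroupOfEquivOfLe hVK).toEquiv]
    _ ≤ Nat.card (autInducedBy (centralizerIn S P) (centralizerIn S P)) :=
        IsSylowIn.card_le ⟨TS, hTS⟩ hle ((IsPGroup.comap_subtype hV).map res) (by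
          rintro _ ⟨β, -, rfl⟩
          exact himg β)
    _ ≤ Nat.card ((U.subgroupOf (cenFix F P)).map res) := Subgroup.card_le_of_le hsurj
    _ = Nat.card (U.subgroupOf (cenFix F P)) := Subgroup.card_map_of_injective hinj
    _ = Nat.card U :=
        Nat.card_congr (Subgroup.subgroupOfEquivOfLe (autInducedBy_cen_le_cenFix hP.1)).toEquiv

/-- A normal `p`-subgroup of `cenFix` consists of conjugations by elements of `C_S(P)`. -/
theorem exists_eq_conjAut_of_normal (hS : IsPGroup p S) (hF : F.IsSaturated p)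
    (hP : F.IsFullyCentralized P) {V : Subgroup (MulAut ↥(P ⊔ centralizerIn S P))}
    (hV : IsPGroup p V) (hVK : V ≤ cenFix F P)
    (hn : ∀ γ ∈ cenFix F P, ∀ v ∈ V, γ * v * γ⁻¹ ∈ V) {β : MulAut ↥(P ⊔ centralizerIn S P)}
    (hβ : β ∈ V) : β ∈ autInducedBy (centralizerIn S P) (P ⊔ centralizerIn S P) := by
  have : Finite ↥(P ⊔ centralizerIn S P) := finite_of_le (sup_centralizerIn_le hP.1)
  have : Finite (MulAut ↥(P ⊔ centralizerIn S P)) := finite_mulAut
  have hsyl : IsSylowIn p (autInducedBy (centralizerIn S P) (P ⊔ centralizerIn S P)) (cenFix F P) :=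
    isSylowIn_of_card_le ((isPGroup_autInducedBy hS _).to_le
      (autInducedBy_mono (centralizerIn_le S P) _)) (autInducedBy_cen_le_cenFix hP.1)
      fun V' hV' hV'K => cenFix_card_le hS hF hP hV' hV'K
  obtain ⟨m, hm, hmU⟩ := hsyl.exists_conj_le hV hVK
  have h1 := hmU _ (hn m⁻¹ (inv_mem hm) β hβ)
  rwa [show m * (m⁻¹ * β * m⁻¹⁻¹) * m⁻¹ = β by group] at h1

/-- For `P` fully normalized `Aut_{N_S(P)}(P C_S(P))` is a Sylow subgroup of the stabilizer. -/
theorem pairAut_sylow (hS : IsPGroup p S) (hF : F.IsSaturated p) (hP : F.IsFullyNormalized P) :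
    IsSylowIn p (pairAut S (P ⊔ centralizerIn S P) P) (pairStab F (P ⊔ centralizerIn S P) P) := by
  have hfc := isFullyCentralized_of_isFullyNormalized hS hF hP
  have hPS : P ≤ S := hP.1
  have hWS := sup_centralizerIn_le hPS
  have : Finite P := finite_of_le hPS
  have : Finite (MulAut P) := finite_mulAut
  have : Finite ↥(P ⊔ centralizerIn S P) := finite_of_le hWS
  have : Finite (MulAut ↥(P ⊔ centralizerIn S P)) := finite_mulAut
  set G := pairStab F (P ⊔ centralizerIn S P) P with hG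
  set ρ : G →* MulAut P := pairRes le_sup_left
  refine isSylowIn_of_card_le ((isPGroup_autInducedBy hS _).to_le inf_le_left) (pairAut_le hWS)
    fun V hV hVG => ?_
  obtain ⟨-, TS, hTS⟩ := isFullyAutomized_of_isFullyNormalized hS hF hP
  have hρF : ∀ g : G, ρ g ∈ F.autGroup P := fun g => pairRes_mem le_sup_left hWS g
  obtain ⟨a, ha⟩ := exists_conj_le_sylow TS
    (IsPGroup.comap_subtype (K := F.autGroup P) ((hV.comap_subtype (K := G)).map ρ))
  obtain ⟨g, hg, hgP, h₁, -, -⟩ := exists_iso_sup hS hF hfc hfc ((mem_autGroup_iff hPS).1 a.2)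
  have hgG : (g : MulAut ↥(P ⊔ centralizerIn S P)) ∈ G := ⟨(mem_autGroup_iff hWS).2 hg, h₁⟩
  set γ : G := ⟨_, hgG⟩
  have hργ : ρ γ = (a : MulAut P) := MulEquiv.ext fun x => Subtype.ext (hgP x)
  set V₁ := (V.subgroupOf G).map (MulAut.conj γ).toMonoidHom with hV₁
  have hU : pairAut S (P ⊔ centralizerIn S P) P ≤ G := pairAut_le hWS
  have hcard : Nat.card V₁ ≤ Nat.card ((pairAut S (P ⊔ centralizerIn S P) P).subgroupOf G) := by
    refine card_le_of_hom ρ ?_ ?_
    · rintro _ ⟨_, ⟨v, hv, rfl⟩, rfl⟩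
      have h2 := ha ⟨ρ v, hρF v⟩ ⟨v, hv, rfl⟩
      rw [hTS, Subgroup.mem_subgroupOf] at h2
      obtain ⟨s, hsN, hsS, hseq⟩ := exists_eq_conjAut h2
      have hsW := normalizer_sup_centralizerIn hsS hsN
      have hsG : conjAut _ s hsW ∈ pairAut S (P ⊔ centralizerIn S P) P :=
        ⟨conjAut_mem_autInducedBy hsS hsW, conjAut_mem_setStab hsW hsN⟩
      refine ⟨⟨_, hU hsG⟩, hsG, ?_⟩
      show _ = ρ (γ * v * γ⁻¹)
      rw [map_mul, map_mul, map_inv, hργ]
      exact (MulEquiv.ext fun x => Subtype.ext rfl).trans hseq.symm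
    · have hker : ∀ v : G, v ∈ ρ.ker → (v : MulAut _) ∈ cenFix F P := fun v hv =>
        ⟨v.2.1, fun x => Subtype.ext (congrArg (fun e : MulAut P => ((e x : P) : Ω)) hv)⟩
      have hV₁p : IsPGroup p V₁ := (hV.comap_subtype (K := G)).map _
      have h3 := cenFix_card_le hS hF hfc ((hV₁p.to_le (inf_le_left : V₁ ⊓ ρ.ker ≤ V₁)).map G.subtype)
        (by rintro _ ⟨v, hv, rfl⟩; exact hker v hv.2)
      rw [Subgroup.card_map_of_injective G.subtype_injective] at h3
      refine h3.trans ?_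
      rw [← Subgroup.card_map_of_injective (f := G.subtype) G.subtype_injective]
      refine Subgroup.card_le_of_le fun α hα => ?_
      obtain ⟨c, hn, hc, rfl⟩ := exists_eq_conjAut hα
      have hfix := conjAut_mem_cenFix (F := F) hPS hc hn
      have hpair : conjAut _ c hn ∈ pairAut S (P ⊔ centralizerIn S P) P :=
        ⟨conjAut_mem_autInducedBy hc.1 hn, cenFix_setStab hfix⟩
      exact ⟨⟨_, hU hpair⟩, ⟨hpair, MulEquiv.ext fun x => Subtype.ext
        ((congrArg Subtype.val (hfix.2 x)) :)⟩, rfl⟩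
  rw [hV₁, Subgroup.card_map_of_injective (MulAut.conj γ).injective,
    Nat.card_congr (Subgroup.subgroupOfEquivOfLe hVG).toEquiv,
    Nat.card_congr (Subgroup.subgroupOfEquivOfLe hU).toEquiv] at hcard
  exact hcard

/-! ### Both sides -/

namespace Setup

variable {T₁ T₂ : Subgroup Ω} {D₁ : Cfsg.FusionSystem T₁} {D₂ : Cfsg.FusionSystem T₂}
variable (h : Setup F D₁ D₂ p)
include h

/-- The automorphisms of `P C_S(P)` compatible with both sides. -/
def sideBoth (hP : P ≤ S) : Subgroup (MulAut ↥(P ⊔ centralizerIn S P)) :=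
  sideAut F D₁ h.le₁ hP ⊓ sideAut F D₂ h.le₂ hP

theorem sideBoth_le (hP : P ≤ S) :
    h.sideBoth hP ≤ pairStab F (P ⊔ centralizerIn S P) P := fun _ hβ =>
  ⟨(mem_sideAut.1 hβ.1).1, (mem_sideAut.1 hβ.1).2.1⟩

theorem sideBoth_disp {hP : P ≤ S} {β : MulAut ↥(P ⊔ centralizerIn S P)} (hβ : β ∈ h.sideBoth hP)
    {c : ↥(P ⊔ centralizerIn S P)} (hc : (c : Ω) ∈ centralizerIn S P) :
    ((c⁻¹ * β c : ↥(P ⊔ centralizerIn S P)) : Ω) ∈ T₁ ⊓ T₂ :=
  ⟨(mem_sideAut.1 hβ.1).2.2.1 c hc, (mem_sideAut.1 hβ.2).2.2.1 c hc⟩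

theorem sideBoth_conj {hP : P ≤ S} (hPT : P ≤ T₁ ⊓ T₂)
    {γ : MulAut ↥(P ⊔ centralizerIn S P)} (hγ : γ ∈ pairStab F (P ⊔ centralizerIn S P) P)
    {β : MulAut ↥(P ⊔ centralizerIn S P)} (hβ : β ∈ h.sideBoth hP) :
    γ * β * γ⁻¹ ∈ h.sideBoth hP := by
  rw [← congr_eq_conj]
  have hWS := sup_centralizerIn_le hP
  have hg := (mem_autGroup_iff hWS).1 hγ.1
  have hsc : ∀ {A : Subgroup Ω}, F.StronglyClosed A → ∀ w : ↥(P ⊔ centralizerIn S P),
      ((γ w : ↥(P ⊔ centralizerIn S P)) : Ω) ∈ A ↔ (w : Ω) ∈ A := fun hA w =>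
    ⟨fun hw => by
      have h1 := stronglyClosed_apply_mem hA hg.symm (γ w) hw
      change ((γ.symm (γ w) : _) : Ω) ∈ _ at h1
      rwa [MulEquiv.symm_apply_apply] at h1, fun hw => stronglyClosed_apply_mem hA hg w hw⟩
  have h₂ := setStab_cen hP hγ.2
  exact ⟨congr_mem_sideAut h.le₁ h.inv₁ (hPT.trans inf_le_left) hP hP hg hγ.2 h₂ (hsc h.sc₁) hβ.1,
    congr_mem_sideAut h.le₂ h.inv₂ (hPT.trans inf_le_right) hP hP hg hγ.2 h₂ (hsc h.sc₂) hβ.2⟩

theorem conjAut_mem_sideBoth {hP : P ≤ S} (hPT : P ≤ T₁ ⊓ T₂) {t : Ω} (ht : t ∈ T₁ ⊓ T₂)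
    (htN : t ∈ Subgroup.normalizer (P : Set Ω))
    (htW : t ∈ Subgroup.normalizer ((P ⊔ centralizerIn S P : Subgroup Ω) : Set Ω)) :
    conjAut _ t htW ∈ h.sideBoth hP :=
  ⟨conjAut_mem_sideAut D₁ h.sc₁ hP (hPT.trans inf_le_left) ht.1 htN htW,
    conjAut_mem_sideAut D₂ h.sc₂ hP (hPT.trans inf_le_right) ht.2 htN htW⟩

theorem exists_coprime_lift {hP : P ≤ S} {a : MulAut P} (ha : a ∈ h.liftAut hP)
    (hco : (orderOf a).Coprime p) : ∃ β ∈ h.sideBoth hP, (orderOf β).Coprime p ∧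
      ∀ x : P, β (Subgroup.inclusion le_sup_left x) = Subgroup.inclusion le_sup_left (a x) := by
  obtain ⟨β, hβ, hβx⟩ := ha
  have : Finite ↥(P ⊔ centralizerIn S P) := finite_of_le (sup_centralizerIn_le hP)
  obtain ⟨n, hn, hnx⟩ := exists_coprime_pow le_sup_left hco β hβx
  exact ⟨β ^ n, pow_mem hβ n, hn, hnx⟩

/-- An element of `sideBoth` fixing a `T`-centric fully centralized `P` is inner by `C_S(P)`. -/
theorem exists_conjAut_of_fix (hP : F.IsFullyCentralized P) (hTC : IsTC F (T₁ ⊓ T₂) P)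
    {β : MulAut ↥(P ⊔ centralizerIn S P)} (hβ : β ∈ cenFix F P) (hβs : β ∈ h.sideBoth hP.1) :
    β ∈ autInducedBy (centralizerIn S P) (P ⊔ centralizerIn S P) := by
  have hWS := sup_centralizerIn_le hP.1
  have : Finite ↥(P ⊔ centralizerIn S P) := finite_of_le hWS
  have : Finite (MulAut ↥(P ⊔ centralizerIn S P)) := finite_mulAut
  refine exists_eq_conjAut_of_normal h.grp h.sat hP (V := cenFix F P ⊓ h.sideBoth hP.1) ?_
    inf_le_left (fun γ hγ v hv => ⟨mul_mem (mul_mem hγ hv.1) ((cenFix F P).inv_mem hγ),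
      h.sideBoth_conj hTC.1 ⟨hγ.1, cenFix_setStab hγ⟩ hv.2⟩) ⟨hβ, hβs⟩
  refine Stability.isPGroup_of_coprime_eq_one fun v hv => Subtype.ext ?_
  rw [← Subgroup.orderOf_coe] at hv
  refine aut_eq_one_of_sup v.2.1.2 fun c => ?_
  refine Stability.eq_self_of_disp_fixed (h.grp.to_le hWS) _ hv ?_
  have hd := h.sideBoth_disp v.2.2 (c := Subgroup.inclusion le_sup_right c) c.2
  have hdC : (((Subgroup.inclusion le_sup_right c)⁻¹ * (v : MulAut _) (Subgroup.inclusion le_sup_right c) :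
      ↥(P ⊔ centralizerIn S P)) : Ω) ∈ centralizerIn S P :=
    mul_mem (inv_mem c.2) ((setStab_cen hP.1 (cenFix_setStab v.2.1) _).2 c.2)
  have hdP := hTC.self h.le ⟨hd, hdC.2⟩
  exact v.2.1.2 ⟨_, hdP⟩

/-! ### The group generated inside `Aut(P C_S(P))` -/

/-- The group generated by the conjugates of `Aut_T` and the coprime elements of `sideBoth`. -/
def hull (hP : P ≤ S) : Subgroup (MulAut ↥(P ⊔ centralizerIn S P)) :=
  Subgroup.closure ({x | ∃ γ ∈ pairStab F (P ⊔ centralizerIn S P) P,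
    ∃ c ∈ pairAut (T₁ ⊓ T₂) (P ⊔ centralizerIn S P) P, x = γ * c * γ⁻¹} ∪
    {x | x ∈ h.sideBoth hP ∧ (orderOf x).Coprime p})

theorem pairAut_le_sideBoth (hP : P ≤ S) (hPT : P ≤ T₁ ⊓ T₂) :
    pairAut (T₁ ⊓ T₂) (P ⊔ centralizerIn S P) P ≤ h.sideBoth hP := by
  intro c hc
  obtain ⟨t, htW, ht, rfl⟩ := exists_eq_conjAut hc.1
  exact h.conjAut_mem_sideBoth hPT ht (mem_normalizer_of_conjAut_mem_setStab le_sup_left htW hc.2) htW

theorem pairAut_le_hull (hP : P ≤ S) :
    pairAut (T₁ ⊓ T₂) (P ⊔ centralizerIn S P) P ≤ h.hull hP := fun c hc =>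
  Subgroup.subset_closure (Or.inl ⟨1, one_mem _, c, hc, by simp⟩)

theorem hull_le (hP : P ≤ S) (hPT : P ≤ T₁ ⊓ T₂) : h.hull hP ≤ h.sideBoth hP := by
  refine (Subgroup.closure_le _).2 ?_
  rintro x (⟨γ, hγ, c, hc, rfl⟩ | hx)
  · exact h.sideBoth_conj hPT hγ (h.pairAut_le_sideBoth hP hPT hc)
  · exact hx.1

theorem hull_conj (hP : P ≤ S) (hPT : P ≤ T₁ ⊓ T₂) {γ : MulAut ↥(P ⊔ centralizerIn S P)}
    (hγ : γ ∈ pairStab F (P ⊔ centralizerIn S P) P) {x : MulAut ↥(P ⊔ centralizerIn S P)}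
    (hx : x ∈ h.hull hP) : γ * x * γ⁻¹ ∈ h.hull hP := by
  have hle : h.hull hP ≤ (h.hull hP).comap (MulAut.conj γ).toMonoidHom := by
    refine (Subgroup.closure_le _).2 ?_
    rintro y (⟨δ, hδ, c, hc, rfl⟩ | ⟨hy, hco⟩)
    · refine Subgroup.subset_closure (Or.inl ⟨γ * δ, mul_mem hγ hδ, c, hc, ?_⟩)
      show γ * (δ * c * δ⁻¹) * γ⁻¹ = _
      group
    · refine Subgroup.subset_closure (Or.inr ⟨h.sideBoth_conj hPT hγ hy, ?_⟩)
      rwa [show orderOf ((MulAut.conj γ).toMonoidHom y) = orderOf y from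
        orderOf_injective _ (MulAut.conj γ).injective y]
  exact hle hx

/-- The displacement at the heart of the focal subgroup argument. -/
theorem mul_inv_ext_mem (hP : F.IsFullyNormalized P) (hPT : P ≤ T₁ ⊓ T₂)
    {A : Subgroup Ω} {DA : Cfsg.FusionSystem A} (hA : F.StronglyClosed A) (hDA : DA.IsInvariantIn F)
    (hDs : DA.IsSaturated p) (hPA : P ≤ A) {β : MulAut ↥(P ⊔ centralizerIn S P)}
    (hβ : β ∈ sideAut F DA hA.1 hP.1) {s : Ω} (hs : s ∈ S)
    (hsN : s ∈ Subgroup.normalizer (P : Set Ω)) (hsP : conjAut P s hsN ∈ DA.autGroup P)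
    {ψ : ↥((P ⊔ centralizerIn S P) ⊔ Subgroup.zpowers s) →* Ω}
    (hψ : ψ ∈ F.Hom ((P ⊔ centralizerIn S P) ⊔ Subgroup.zpowers s))
    (hag : ∀ w : ↥(P ⊔ centralizerIn S P), ψ (Subgroup.inclusion le_sup_left w) = (β w : Ω)) :
    s * (ψ ⟨s, Subgroup.mem_sup_right (Subgroup.mem_zpowers s)⟩)⁻¹ ∈ A := by
  have hAS : A ≤ S := hA.1
  have : Finite A := finite_of_le hAS
  have : Finite P := finite_of_le hP.1
  have : Finite (MulAut P) := finite_mulAut
  have hAp := h.grp.to_le hAS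
  obtain ⟨-, PA, hPA'⟩ := isFullyAutomized_of_isFullyNormalized hAp hDs
    (CfsgLib.FusionQuot.isFullyNormalized_of_subsystem h.grp h.sat hA hDA.1 hPA hP)
  set V := (autInducedBy S P).subgroupOf (DA.autGroup P)
  have hVp : IsPGroup p V := (isPGroup_autInducedBy h.grp P).comap_subtype
  have heq := PA.is_maximal' hVp (by rw [hPA']; exact fun a ha => autInducedBy_mono hAS P ha)
  have hmem : (⟨_, hsP⟩ : DA.autGroup P) ∈ V := conjAut_mem_autInducedBy (P := P) hs hsN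
  rw [heq, hPA'] at hmem
  obtain ⟨t, htA, hts⟩ := mem_autInducedBy_iff.1 (Subgroup.mem_subgroupOf.1 hmem)
  have hc : t⁻¹ * s ∈ centralizerIn S P := by
    refine ⟨S.mul_mem (S.inv_mem (hAS htA)) hs, Subgroup.mem_centralizer_iff.2 fun y hy => ?_⟩
    have h1 : s * y * s⁻¹ = t * y * t⁻¹ := hts ⟨y, hy⟩
    calc y * (t⁻¹ * s) = t⁻¹ * (t * y * t⁻¹) * s := by group
      _ = _ := by rw [← h1]; group
  set c := t⁻¹ * s with hcdef
  have hsX : s ∈ (P ⊔ centralizerIn S P) ⊔ Subgroup.zpowers s :=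
    Subgroup.mem_sup_right (Subgroup.mem_zpowers s)
  have hcW : c ∈ P ⊔ centralizerIn S P := Subgroup.mem_sup_right hc
  have htX : t ∈ (P ⊔ centralizerIn S P) ⊔ Subgroup.zpowers s := by
    have := mul_mem hsX (inv_mem (Subgroup.mem_sup_left (T := Subgroup.zpowers s) hcW))
    rwa [show s * c⁻¹ = t by rw [hcdef]; group] at this
  have hψt : ψ ⟨t, htX⟩ ∈ A := stronglyClosed_apply_mem hA hψ ⟨t, htX⟩ htA
  have hψc : ψ ⟨c, Subgroup.mem_sup_left hcW⟩ = (β ⟨c, hcW⟩ : Ω) := hag ⟨c, hcW⟩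
  have hψs : ψ ⟨s, hsX⟩ = ψ ⟨t, htX⟩ * (β ⟨c, hcW⟩ : Ω) := by
    rw [← hψc, ← map_mul]
    exact congrArg ψ (Subtype.ext (by
      show s = t * c
      rw [hcdef, mul_inv_cancel_left]))
  have hd : c⁻¹ * (β ⟨c, hcW⟩ : Ω) ∈ A := (mem_sideAut.1 hβ).2.2.1 ⟨c, hcW⟩ hc
  have h2 : c * (c⁻¹ * (β ⟨c, hcW⟩ : Ω))⁻¹ * c⁻¹ ∈ A :=
    conj_mem_of_stronglyClosed hA hc.1 (A.inv_mem hd)
  rw [hψs]
  have hst : t * c = s := by rw [hcdef, mul_inv_cancel_left]
  have h3 := A.mul_mem (A.mul_mem htA h2) (A.inv_mem hψt)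
  rw [show t * (c * (c⁻¹ * (β ⟨c, hcW⟩ : Ω))⁻¹ * c⁻¹) * (ψ ⟨t, htX⟩)⁻¹ =
    t * c * (ψ ⟨t, htX⟩ * (β ⟨c, hcW⟩ : Ω))⁻¹ by group] at h3
  exact (congrArg (fun z => z * (ψ ⟨t, htX⟩ * (β ⟨c, hcW⟩ : Ω))⁻¹ ∈ A) hst).mp h3

theorem hull_sylow (hP : F.IsFullyNormalized P) (hPT : P ≤ T₁ ⊓ T₂) :
    IsSylowIn p (pairAut (T₁ ⊓ T₂) (P ⊔ centralizerIn S P) P) (h.hull hP.1) := by
  have hPS := hP.1
  have hfc := isFullyCentralized_of_isFullyNormalized h.grp h.sat hP
  have hWc := isCentric_sup h.grp h.sat hfc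
  set W := P ⊔ centralizerIn S P with hW
  have hPW : P ≤ W := le_sup_left
  have hWS : W ≤ S := sup_centralizerIn_le hPS
  have : Finite W := finite_of_le hWS
  have : Finite (MulAut W) := finite_mulAut
  set J := h.hull hPS
  have hJs : J ≤ h.sideBoth hPS := h.hull_le hPS hPT
  have hJG : J ≤ pairStab F W P := hJs.trans (h.sideBoth_le hPS)
  set RQ := pairAut S W P with hRQ
  have hsylQ : IsSylowIn p RQ (pairStab F W P) := pairAut_sylow h.grp h.sat hP
  have hRQp : IsPGroup p RQ := (isPGroup_autInducedBy h.grp W).to_le inf_le_left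
  have hR : IsSylowIn p (RQ ⊓ J) J := isSylowIn_of_card_le (hRQp.to_le inf_le_left) inf_le_right
    fun V hV hVJ => by
      obtain ⟨m, hm, hmR⟩ := hsylQ.exists_conj_le hV (hVJ.trans hJG)
      exact Nat.card_le_card_of_injective (fun v : V =>
        (⟨m * v * m⁻¹, hmR v v.2, h.hull_conj hPS hPT hm (hVJ v.2)⟩ : (RQ ⊓ J : Subgroup _)))
        fun a b hab => Subtype.ext (mul_left_cancel (mul_right_cancel (Subtype.ext_iff.1 hab)))
  obtain ⟨R₀, hR₀⟩ := hR
  set RT := pairAut (T₁ ⊓ T₂) W P with hRT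
  have hRTQ : RT ≤ RQ := inf_le_inf_right _ (autInducedBy_mono h.le W)
  have hRTJ : RT ≤ J := h.pairAut_le_hull hPS
  set Pg : Subgroup J := ((R₀ : Sylow p J) : Subgroup J) with hPgdef
  have hPg : ∀ y : J, y ∈ Pg ↔ (y : MulAut W) ∈ RQ := fun y => by
    show y ∈ Pg ↔ _
    rw [hR₀, Subgroup.mem_subgroupOf]
    exact ⟨fun hy => hy.1, fun hy => ⟨hy, y.2⟩⟩
  have hext : ∀ (β : MulAut W), β ∈ pairStab F W P → ∀ (g : Ω) (hg : g ∈ S)
      (hgW : g ∈ Subgroup.normalizer (W : Set Ω)), β * conjAut W g hgW * β⁻¹ ∈ RQ →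
      ∃ ψ ∈ F.Hom (W ⊔ Subgroup.zpowers g), (∀ w : W, ψ (Subgroup.inclusion le_sup_left w) = (β w : Ω)) ∧
        ∃ hN : ψ ⟨g, Subgroup.mem_sup_right (Subgroup.mem_zpowers g)⟩ ∈
            Subgroup.normalizer (W : Set Ω),
          conjAut W _ hN = β * conjAut W g hgW * β⁻¹ := by
    intro β hβ g hg hgW hmem
    have hX : W ⊔ Subgroup.zpowers g ≤ normalizerIn S W :=
      sup_le (le_normalizerIn hWS) (Subgroup.zpowers_le.2 ⟨hg, hgW⟩)
    let K : Subgroup (Subgroup.normalizer (W : Set Ω)) :=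
      (autInducedBy S W).comap ((MulAut.conj β).toMonoidHom.comp W.normalizerMonoidHom)
    have hK : W ⊔ Subgroup.zpowers g ≤ K.map (Subgroup.normalizer (W : Set Ω)).subtype := by
      refine sup_le (fun w hw => ⟨⟨w, Subgroup.le_normalizer hw⟩, ?_, rfl⟩)
        (Subgroup.zpowers_le.2 ⟨⟨g, hgW⟩, hmem.1, rfl⟩)
      show β * conjAut W w _ * β⁻¹ ∈ autInducedBy S W
      rw [← congr_eq_conj, congr_conjAut (β : W ≃* W) (h := ((β ⟨w, hw⟩ : W) : Ω))
        (Subgroup.le_normalizer hw) (Subgroup.le_normalizer (β ⟨w, hw⟩).2) fun x => by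
          rw [show conjAut W w _ x = ⟨w, hw⟩ * x * ⟨w, hw⟩⁻¹ from Subtype.ext rfl, map_mul, map_mul,
            map_inv]
          rfl]
      exact conjAut_mem_autInducedBy (hWS (β _).2) _
    obtain ⟨ψ, hψ, hag, hval⟩ := exists_ext_aut h.grp h.sat hWc hβ.1 le_sup_left hX fun k hk => by
      obtain ⟨k', hk', hkk⟩ := hK hk
      subst hkk
      exact hk'
    exact ⟨ψ, hψ, fun w => hag w, hval g _⟩
  have hnormal : ∀ y ∈ RQ, ∀ c ∈ RT, y * c * y⁻¹ ∈ RT := by
    intro y hy c hc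
    obtain ⟨g, hgW, hg, rfl⟩ := exists_eq_conjAut hy.1
    refine ⟨?_, mul_mem (mul_mem hy.2 hc.2) ((setStab W P).inv_mem hy.2)⟩
    obtain ⟨t, htW, ht, rfl⟩ := exists_eq_conjAut hc.1
    rw [conjAut_inv, conjAut_mul, conjAut_mul]
    exact conjAut_mem_autInducedBy (conj_mem_of_stronglyClosed h.sc hg ht) _
  set Tn : Subgroup Pg := (RT.subgroupOf J).subgroupOf Pg
  have hTnn : Tn.Normal := ⟨fun n hn y => hnormal _ ((hPg _).1 y.2) _ hn⟩
  have hfoc : Pg.focalSubgroupOf ≤ Tn := by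
    intro z hz
    have hz' : (z : J) ∈ Pg.focalSubgroup := hz
    suffices Pg.focalSubgroup ≤ RT.subgroupOf J from this hz'
    rw [Subgroup.focalSubgroup_def, Subgroup.closure_le]
    rintro w ⟨hw, x, hx, u, rfl⟩
    show ((⁅x, u⁆ : J) : MulAut W) ∈ RT
    have hxQ := (hPg x).1 hx
    have huxQ : (u : MulAut W) * x * (u : MulAut W)⁻¹ ∈ RQ := by
      have h1 := RQ.inv_mem (RQ.mul_mem (RQ.inv_mem hxQ) ((hPg _).1 hw))
      simpa [commutatorElement_def, mul_assoc] using h1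
    obtain ⟨s, hsW, hs, hxs⟩ := exists_eq_conjAut hxQ.1
    have hsN : s ∈ Subgroup.normalizer (P : Set Ω) :=
      mem_normalizer_of_conjAut_mem_setStab hPW hsW (hxs ▸ hxQ.2)
    obtain ⟨ψ, hψ, hag, hN, hval⟩ := hext u (hJG u.2) s hs hsW (hxs ▸ huxQ)
    have hsD : conjAut P s hsN ∈ h.liftAut hPS :=
      ⟨x, hJs x.2, fun y => Subtype.ext
        (congrArg (fun e : MulAut W => ((e (Subgroup.inclusion hPW y) : W) : Ω)) hxs)⟩
    set r := ψ ⟨s, Subgroup.mem_sup_right (Subgroup.mem_zpowers s)⟩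
    have hA1 := h.mul_inv_ext_mem hP hPT h.sc₁ h.inv₁ h.nor₁.1 (hPT.trans inf_le_left) (hJs u.2).1 hs
      hsN (h.liftAut_le₁ hPS (hPT.trans inf_le_left) hsD) hψ hag
    have hA2 := h.mul_inv_ext_mem hP hPT h.sc₂ h.inv₂ h.nor₂.1 (hPT.trans inf_le_right) (hJs u.2).2 hs
      hsN (h.liftAut_le₂ hPS (hPT.trans inf_le_right) hsD) hψ hag
    have hcom : ((⁅x, u⁆ : J) : MulAut W) = conjAut W s hsW * (conjAut W r hN)⁻¹ := by
      rw [hval, ← hxs, commutatorElement_def]
      simp only [Subgroup.coe_mul, Subgroup.coe_inv]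
      group
    refine ⟨?_, ((hJG (⁅x, u⁆ : J).2)).2⟩
    rw [hcom, conjAut_inv, conjAut_mul]
    exact conjAut_mem_autInducedBy (Subgroup.mem_inf.2 ⟨hA1, hA2⟩) _
  let τ : J →* Pg ⧸ Tn :=
    (QuotientGroup.lift Pg.focalSubgroupOf (QuotientGroup.mk' Tn)
      (by rwa [QuotientGroup.ker_mk'])).comp Pg.transferFocal
  have hτ : ∀ y : Pg, τ (y : J) = (QuotientGroup.mk' Tn y) ^ Pg.index := fun y => by
    show QuotientGroup.lift Pg.focalSubgroupOf (QuotientGroup.mk' Tn)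
      (by rwa [QuotientGroup.ker_mk']) (Pg.transferFocal y) = _
    rw [Pg.transferFocal_eq_pow, map_pow]
    rfl
  have hker : J ≤ τ.ker.map J.subtype := by
    refine (Subgroup.closure_le _).2 ?_
    rintro x hx
    have hxJ : x ∈ J := Subgroup.subset_closure hx
    refine ⟨⟨x, hxJ⟩, ?_, rfl⟩
    rcases hx with ⟨γ, hγ, c, hc, rfl⟩ | ⟨-, hco⟩
    · set y : J := ⟨γ * c * γ⁻¹, hxJ⟩ with hy
      have hyp : IsPGroup p (Subgroup.zpowers (y : MulAut W)) := by
        have h1 : IsPGroup p (Subgroup.zpowers c) :=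
          hRQp.to_le (Subgroup.zpowers_le.2 (hRTQ hc))
        refine (h1.map (MulAut.conj γ).toMonoidHom).to_le ?_
        rw [Subgroup.zpowers_le]
        exact ⟨c, Subgroup.mem_zpowers c, rfl⟩
      obtain ⟨m, hm, hconj⟩ :=
        IsSylowIn.exists_conj_le ⟨R₀, hR₀⟩ hyp (Subgroup.zpowers_le.2 y.2)
      have hQ1 := (hconj _ (Subgroup.mem_zpowers _)).1
      have hyPg : (⟨m, hm⟩ * y * ⟨m, hm⟩⁻¹ : J) ∈ Pg := (hPg _).2 hQ1
      have e : m * (γ * c * γ⁻¹) * m⁻¹ = (m * γ) * c * (m * γ)⁻¹ := by group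
      have hyT : m * (γ * c * γ⁻¹) * m⁻¹ ∈ RT := by
        obtain ⟨t, htW, ht, hct⟩ := exists_eq_conjAut hc.1
        have hQ2 : (m * γ) * conjAut W t htW * (m * γ)⁻¹ ∈ RQ := by rw [← hct, ← e]; exact hQ1
        obtain ⟨ψ, hψ, -, hN, hval⟩ := hext _ (mul_mem (hJG hm) hγ) t (h.le ht) htW hQ2
        refine ⟨?_, hQ1.2⟩
        rw [e, hct, ← hval]
        exact conjAut_mem_autInducedBy (stronglyClosed_apply_mem h.sc hψ ⟨t, _⟩ ht) _
      have h1 : τ (⟨m, hm⟩ * y * ⟨m, hm⟩⁻¹) = 1 := by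
        refine (hτ ⟨_, hyPg⟩).trans ?_
        rw [show QuotientGroup.mk' Tn ⟨_, hyPg⟩ = 1 from (QuotientGroup.eq_one_iff _).2 hyT, one_pow]
      rw [map_mul, map_mul, map_inv, conj_eq_one_iff] at h1
      exact h1
    · refine CfsgLib.Transfer.pResidual_le_ker_of_isPGroup ((R₀.2).to_quotient Tn) τ
        (CfsgLib.Transfer.mem_pResidual_of_coprime ?_)
      rwa [← Subgroup.orderOf_coe]
  have hin : RQ ⊓ J ≤ RT := by
    intro x hx
    obtain ⟨y, hy, rfl⟩ := hker hx.2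
    have hyPg : y ∈ Pg := (hPg y).2 hx.1
    have h1 : (QuotientGroup.mk' Tn ⟨y, hyPg⟩) ^ Pg.index = 1 := (hτ ⟨y, hyPg⟩).symm.trans hy
    obtain ⟨k, hk⟩ := (R₀.2).to_quotient Tn (QuotientGroup.mk' Tn ⟨y, hyPg⟩)
    have hcop : Nat.Coprime Pg.index (p ^ k) :=
      (((Fact.out : p.Prime).coprime_iff_not_dvd.2 R₀.not_dvd_index).symm).pow_right k
    have h2 : orderOf (QuotientGroup.mk' Tn ⟨y, hyPg⟩) = 1 :=
      Nat.eq_one_of_dvd_coprimes hcop (orderOf_dvd_of_pow_eq_one h1) (orderOf_dvd_of_pow_eq_one hk)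
    exact (QuotientGroup.eq_one_iff (⟨y, hyPg⟩ : Pg)).1 (orderOf_eq_one_iff.1 h2)
  rw [show RT = RQ ⊓ J from le_antisymm (le_inf hRTQ hRTJ) hin]
  exact ⟨R₀, hR₀⟩

/-- `Aut_T(P)` is a Sylow subgroup of `gam P` for fully normalized `P`. -/
theorem gam_sylow (hP : F.IsFullyNormalized P) (hPT : P ≤ T₁ ⊓ T₂) :
    IsSylowIn p (autInducedBy (T₁ ⊓ T₂) P) (h.gam P) := by
  have hPS := hP.1
  have hfc := isFullyCentralized_of_isFullyNormalized h.grp h.sat hP
  have hWS := sup_centralizerIn_le hPS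
  have : Finite P := finite_of_le hPS
  have : Finite (MulAut P) := finite_mulAut
  have : Finite ↥(P ⊔ centralizerIn S P) := finite_of_le hWS
  have : Finite (MulAut ↥(P ⊔ centralizerIn S P)) := finite_mulAut
  set G := pairStab F (P ⊔ centralizerIn S P) P with hG
  set J := h.hull hPS
  have hJG : J ≤ G := (h.hull_le hPS hPT).trans (h.sideBoth_le hPS)
  set f : J →* MulAut P := (pairRes le_sup_left).comp (Subgroup.inclusion hJG)
  have hgens : ∀ γ ∈ G, ∀ t, t ∈ T₁ ⊓ T₂ → ∀ htN : t ∈ Subgroup.normalizer (P : Set Ω),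
      ∀ a : MulAut P,
      (∀ x : P, γ (Subgroup.inclusion le_sup_left x) = Subgroup.inclusion le_sup_left (a x)) →
      ∃ j : J, f j = a * conjAut P t htN * a⁻¹ := by
    intro γ hγ t ht htN a hγa
    have htW := normalizer_sup_centralizerIn (h.le ht) htN
    have hc : conjAut _ t htW ∈ pairAut (T₁ ⊓ T₂) (P ⊔ centralizerIn S P) P :=
      ⟨conjAut_mem_autInducedBy ht htW, conjAut_mem_setStab htW htN⟩
    refine ⟨⟨_, h.hull_conj hPS hPT hγ (h.pairAut_le_hull hPS hc)⟩, ?_⟩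
    refine MulEquiv.ext fun x => ?_
    obtain ⟨z, rfl⟩ := a.surjective x
    rw [MulAut.mul_apply, MulAut.mul_apply, MulAut.inv_apply_self]
    refine Subtype.ext ?_
    show ((γ (conjAut _ t htW (γ⁻¹ (Subgroup.inclusion le_sup_left (a z)))) : _) : Ω) = _
    rw [← hγa, MulAut.inv_apply_self]
    exact congrArg Subtype.val (hγa (conjAut P t htN z))
  have hrange : f.range = h.gam P := by
    refine le_antisymm ?_ ((Subgroup.closure_le _).2 ?_)
    · rw [MonoidHom.range_eq_map]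
      have htop : (⊤ : Subgroup J) ≤ (h.gam P).comap f := by
        intro j _
        have hle : J ≤ ((h.gam P).comap f).map J.subtype := by
          refine (Subgroup.closure_le _).2 ?_
          intro x hx
          have hxJ : x ∈ J := Subgroup.subset_closure hx
          refine ⟨⟨x, hxJ⟩, ?_, rfl⟩
          rcases hx with ⟨γ, hγ, c, hc, rfl⟩ | ⟨hxs, hco⟩
          · have hcJ := h.pairAut_le_hull hPS hc
            have h1 : f ⟨γ * c * γ⁻¹, hxJ⟩ = pairRes le_sup_left (⟨γ, hγ⟩ : G) *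
                f ⟨c, hcJ⟩ * (pairRes le_sup_left (⟨γ, hγ⟩ : G))⁻¹ := by
              show _ = pairRes le_sup_left (⟨γ, hγ⟩ : G) * pairRes le_sup_left (⟨c, hJG hcJ⟩ : G) * _
              rw [← map_inv, ← map_mul, ← map_mul]
              rfl
            show f ⟨γ * c * γ⁻¹, hxJ⟩ ∈ h.gam P
            rw [h1]
            refine h.gam_conj hPS (pairRes_mem le_sup_left hWS _) (h.autInducedBy_le_gam hPS ?_)
            obtain ⟨t, ht, htx⟩ := mem_autInducedBy_iff.1 hc.1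
            exact mem_autInducedBy_iff.2 ⟨t, ht, fun y => htx (Subgroup.inclusion le_sup_left y)⟩
          · have hag : ∀ y : P, x (Subgroup.inclusion le_sup_left y) =
                Subgroup.inclusion le_sup_left (f ⟨x, hxJ⟩ y) := fun y => Subtype.ext rfl
            exact h.mem_gam_of_liftAut hfc ⟨x, hxs, hag⟩ (coprime_of_agree le_sup_left hag hco)
        obtain ⟨j', hj', hjj⟩ := hle j.2
        rw [← Subtype.ext hjj]
        exact hj'
      exact (Subgroup.map_le_iff_le_comap).2 htop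
    · rintro a (⟨Q', g, hg, t, ht, htN, heq⟩ | ⟨Q₀, hQ₀, g, hg, hga, hco⟩)
      · obtain ⟨e, he, ψ, hψ, -, hag⟩ :=
          exists_normalizer_map h.grp h.sat hP (isConj_symm hg.isConj)
        have htm : t ∈ normalizerIn S Q' := ⟨h.le ht, htN⟩
        have hψt : ψ ⟨t, htm⟩ ∈ T₁ ⊓ T₂ := stronglyClosed_apply_mem h.sc hψ ⟨t, htm⟩ ht
        set b : MulAut P := (g.trans e).symm
        obtain ⟨G', hG', hG'P, h₁, -, -⟩ := exists_iso_sup h.grp h.sat hfc hfc (hg.trans he).symm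
        obtain ⟨j, hj⟩ := hgens (G' : MulAut ↥(P ⊔ centralizerIn S P))
          ⟨(mem_autGroup_iff hWS).2 hG', h₁⟩ _ hψt
          (map_mem_normalizer_of_extends _ hag htm htN) b (fun x => Subtype.ext (hG'P x))
        refine ⟨j, hj.trans ?_⟩
        rw [← congr_eq_conj, ← congr_conjAut_eq_of_extends _ hag htm htN, ← heq,
          congr_congr g e a]
        exact congr_symm_congr _ a
      · have ha : a ∈ h.liftAut hfc.1 := by
          have h3 := h.liftAut_congr ((conj_le h.sc hPT hg.isConj)) hQ₀ hfc hg.symm hga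
          rwa [congr_symm_congr] at h3
        obtain ⟨β, hβ, hβco, hβx⟩ := h.exists_coprime_lift ha hco
        exact ⟨⟨β, Subgroup.subset_closure (Or.inr ⟨hβ, hβco⟩)⟩,
          MulEquiv.ext fun x => Subtype.ext ((congrArg Subtype.val (hβx x)) :)⟩
  obtain ⟨RS, hRS⟩ := h.hull_sylow hP hPT
  set RI := ((RS : Subgroup J).map f)
  have hsur : Function.Surjective f.rangeRestrict := f.rangeRestrict_surjective
  have hmapS := RS.mapSurjective hsur
  refine isSylowIn_of_card_le ((isPGroup_autInducedBy h.grp P).to_le (autInducedBy_mono h.le P))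
    (h.autInducedBy_le_gam hPS) fun V hV hVg => ?_
  have hcard : Nat.card V ≤ Nat.card ((RS : Subgroup J).map f) := by
    have hsylI : IsSylowIn p ((RS : Subgroup J).map f) f.range := by
      refine ⟨RS.mapSurjective hsur, ?_⟩
      rw [Sylow.coe_mapSurjective]
      ext y
      constructor
      · rintro ⟨j, hj, rfl⟩
        exact ⟨j, hj, rfl⟩
      · rintro ⟨j, hj, hjy⟩
        exact ⟨j, hj, Subtype.ext hjy⟩
    exact hsylI.card_le (Subgroup.map_le_range _ _) hV (hrange ▸ hVg)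
  refine hcard.trans (Subgroup.card_le_of_le ?_)
  rintro _ ⟨j, hj, rfl⟩
  rw [hRS] at hj
  replace hj : (j : MulAut ↥(P ⊔ centralizerIn S P)) ∈
      pairAut (T₁ ⊓ T₂) (P ⊔ centralizerIn S P) P := hj
  obtain ⟨t, ht, htx⟩ := mem_autInducedBy_iff.1 hj.1
  exact mem_autInducedBy_iff.2 ⟨t, ht, fun y => htx (Subgroup.inclusion le_sup_left y)⟩

end Setup

end CfsgLib.Fusion.Inter
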