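import Cfsg.Agent.Lib.Fusion.Inter.Sylow
import Cfsg.Agent.Lib.Fusion.AlperinGroup

/-!
# Moving automorphisms of the intersection up and down

For `P ≤ X ≤ N_T(P)` elements of `gam X` stabilizing `P` restrict into `gam P`, and elements of
`gam P` carrying `Aut_X(P)` into `Aut_T(P)` extend to maps on `X`.
-/

set_option autoImplicit false
set_option linter.unusedSectionVars false

namespace CfsgLib.Fusion.Inter

open Cfsg Cfsg.FusionSystem CfsgLib.Fusion CfsgLib.Fusion.SatCriterion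

variable {Ω : Type*} [Group Ω] {S T : Subgroup Ω} {F : Cfsg.FusionSystem S} {p : ℕ}
variable {P Q R U V W X Y Z : Subgroup Ω}

/-- `β` restricts to `a`. -/
def Agree (hQW : Q ≤ W) (β : MulAut W) (a : MulAut Q) : Prop :=
  ∀ x : Q, β (Subgroup.inclusion hQW x) = Subgroup.inclusion hQW (a x)

theorem Agree.mul {hQW : Q ≤ W} {β γ : MulAut W} {a b : MulAut Q} (h₁ : Agree hQW β a)
    (h₂ : Agree hQW γ b) : Agree hQW (β * γ) (a * b) := fun x => by
  rw [MulAut.mul_apply, MulAut.mul_apply, h₂, h₁]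

theorem Agree.inv {hQW : Q ≤ W} {β : MulAut W} {a : MulAut Q} (h₁ : Agree hQW β a) :
    Agree hQW β⁻¹ a⁻¹ := fun x => β.injective (by
  rw [MulAut.apply_inv_self, h₁, MulAut.apply_inv_self])

theorem agree_conjAut (hQW : Q ≤ W) {g : Ω} (hW : g ∈ Subgroup.normalizer (W : Set Ω))
    (hQ : g ∈ Subgroup.normalizer (Q : Set Ω)) : Agree hQW (conjAut W g hW) (conjAut Q g hQ) :=
  fun _ => Subtype.ext rfl

theorem conj_conjAut_self (β : MulAut W) (w : W) (hw : (w : Ω) ∈ Subgroup.normalizer (W : Set Ω))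
    (hβw : ((β w : W) : Ω) ∈ Subgroup.normalizer (W : Set Ω)) :
    β * conjAut W w hw * β⁻¹ = conjAut W ((β w : W) : Ω) hβw := by
  rw [← congr_eq_conj]
  refine congr_conjAut (β : W ≃* W) hw hβw fun x => ?_
  rw [show conjAut W (w : Ω) hw x = w * x * w⁻¹ from Subtype.ext rfl, map_mul, map_mul, map_inv]
  rfl

theorem inv_mul_mem_centralizerIn (hgS : U ≤ S) {g k : Ω} (hg : g ∈ U) (hk : k ∈ U)
    {hgN : g ∈ Subgroup.normalizer (W : Set Ω)} {hkN : k ∈ Subgroup.normalizer (W : Set Ω)}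
    (h : conjAut W g hgN = conjAut W k hkN) : g⁻¹ * k ∈ centralizerIn S W := by
  refine ⟨S.mul_mem (S.inv_mem (hgS hg)) (hgS hk), (conjAut_eq_one_iff
    (mul_mem (inv_mem hgN) hkN)).1 ?_⟩
  rw [← conjAut_mul (inv_mem hgN) hkN, ← conjAut_inv hgN, h, inv_mul_cancel]

variable [Finite S] [Fact p.Prime]

/-- An automorphism of a centric subgroup normalizing the conjugations by a larger group extends to
a coprime automorphism of it. -/
theorem exists_aut_sup (hS : IsPGroup p S) (hF : F.IsSaturated p) (hW : F.IsCentric W)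
    {β : MulAut W} (hβ : β ∈ F.autGroup W) (hco : (orderOf β).Coprime p) (hWU : W ≤ U)
    (hU : U ≤ normalizerIn S W)
    (hact : ∀ g (hg : g ∈ U), β * conjAut W g (hU hg).2 * β⁻¹ ∈ autInducedBy U W) :
    ∃ κ ∈ F.autGroup U, (orderOf κ).Coprime p ∧ Agree hWU κ β := by
  have hUS : U ≤ S := hU.trans (normalizerIn_le S W)
  obtain ⟨ψ, hψ, hag, hval⟩ := exists_ext_aut hS hF hW hβ hWU hU fun g hg =>
    autInducedBy_mono hUS W (hact g hg)
  have hmap : ∀ x : U, ψ x ∈ U := by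
    rintro ⟨g, hg⟩
    obtain ⟨hN, hv⟩ := hval g hg
    obtain ⟨k, hkN, hk, hkeq⟩ := exists_eq_conjAut (hact g hg)
    have h1 : k⁻¹ * ψ ⟨g, hg⟩ ∈ centralizerIn S W :=
      ⟨S.mul_mem (S.inv_mem (hUS hk)) (map_mem hψ _), (conjAut_eq_one_iff
        (mul_mem (inv_mem hkN) hN)).1 (by
          rw [← conjAut_mul (inv_mem hkN) hN, ← conjAut_inv hkN, hv, ← hkeq, inv_mul_cancel])⟩
    have h2 := U.mul_mem hk (hWU (centralizerIn_le_of_isCentric hW h1))
    rwa [mul_inv_cancel_left] at h2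
  obtain ⟨κ₁, hκ₁, hκ₁x⟩ := LayerCore.exists_aut_of_mapsTo hψ hmap
  have : Finite U := finite_of_le hUS
  obtain ⟨n, hn, hnx⟩ := exists_coprime_pow hWU hco κ₁ fun w =>
    Subtype.ext ((hκ₁x _).trans (hag w))
  exact ⟨κ₁ ^ n, pow_mem hκ₁ n, hn, hnx⟩

/-- `P C_A(P)` is centric in a subsystem over `A`. -/
theorem isCentric_sup_of_subsystem (hS : IsPGroup p S) (hF : F.IsSaturated p)
    (hP : F.IsFullyCentralized P) {A : Subgroup Ω} (hA : F.StronglyClosed A)
    {DA : Cfsg.FusionSystem A} (hsub : DA.IsSubsystemOf F) (hPA : P ≤ A) :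
    DA.IsCentric (P ⊔ centralizerIn A P) := by
  refine ⟨sup_le hPA (centralizerIn_le A P), fun V' hV' => ?_⟩
  obtain ⟨φ, hφ, rfl⟩ := hV'
  set P' := (φ.comp (Subgroup.inclusion (le_sup_left : P ≤ P ⊔ centralizerIn A P))).range
  have hres := restrict_mem (hsub _ hφ) (le_sup_left : P ≤ P ⊔ centralizerIn A P)
  obtain ⟨e, he⟩ := exists_iso_of_isConj (isConj_symm (isConj_of_mem hres))
  have hP'S : P' ≤ S := he.le_left
  have hZN : P' ⊔ centralizerIn S P' ≤ normalizerIn S P' :=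
    sup_le (le_normalizerIn hP'S) (centralizerIn_le_normalizerIn S P')
  have hext : P' ⊔ centralizerIn S P' ≤ extender S P' (P.subtype.comp e.toMonoidHom) :=
    sup_le (le_extender hP'S fun x => map_mem he x) (centralizerIn_le_extender _)
  obtain ⟨g, hg, -, hgag⟩ := he.exists_extension (isReceptive_of_isFullyCentralized hS hF hP)
    (le_sup_left (b := centralizerIn S P')) hZN
    fun k hk => (mem_extender_iff_congr e (fun _ => rfl) (hZN hk).1 (hZN hk).2).1 (hext hk)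
  have : Finite (centralizerIn A P) := finite_of_le ((centralizerIn_le A P).trans hA.1)
  have : Finite (centralizerIn A P') := finite_of_le ((centralizerIn_le A P').trans hA.1)
  have hCle : centralizerIn A P' ≤ P' ⊔ centralizerIn S P' :=
    le_sup_of_le_right (inf_le_inf_right _ hA.1)
  have hgm : ∀ c : centralizerIn A P', g ⟨c, hCle c.2⟩ ∈ centralizerIn A P := fun c =>
    ⟨stronglyClosed_apply_mem hA hg ⟨c, hCle c.2⟩ c.2.1, (map_mem_centralizer_iff_of_extends
      le_sup_left hgag (hCle c.2) (centralizer_le_normalizer _ c.2.2)).2 c.2.2⟩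
  have hmem : ∀ c : centralizerIn A P,
      φ (Subgroup.inclusion le_sup_right c) ∈ centralizerIn A P' := by
    intro c
    refine ⟨map_mem hφ _, Subgroup.mem_centralizer_iff.2 ?_⟩
    rintro _ ⟨x, rfl⟩
    show φ (Subgroup.inclusion le_sup_left x) * _ = _ * φ (Subgroup.inclusion le_sup_left x)
    rw [← map_mul, ← map_mul]
    exact congrArg φ (Subtype.ext (Subgroup.mem_centralizer_iff.1 c.2.2 x x.2))
  have hbij : Function.Bijective (fun c : centralizerIn A P =>
      (⟨_, hmem c⟩ : centralizerIn A P')) := by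
    refine (Nat.bijective_iff_injective_and_card _).2 ⟨fun a b h => ?_, ?_⟩
    · exact Subgroup.inclusion_injective le_sup_right (hom_inj hφ (Subtype.ext_iff.1 h :))
    · refine le_antisymm (Nat.card_le_card_of_injective (fun c => (⟨_, hmem c⟩ : centralizerIn A P'))
        fun a b h => Subgroup.inclusion_injective le_sup_right (hom_inj hφ (Subtype.ext_iff.1 h :))) ?_
      exact Nat.card_le_card_of_injective (fun c => (⟨_, hgm c⟩ : centralizerIn A P))
        fun a b h => Subtype.ext (Subtype.ext_iff.1 (hom_inj hg (Subtype.ext_iff.1 h :)) :)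
  intro y hy
  have hP'le : P' ≤ φ.range := by
    rintro _ ⟨x, rfl⟩
    exact ⟨_, rfl⟩
  obtain ⟨c, hc⟩ := hbij.2 ⟨y, hy.1, Subgroup.centralizer_le (SetLike.coe_subset_coe.2 hP'le) hy.2⟩
  exact ⟨_, Subtype.ext_iff.1 hc⟩

/-- `C_S(P)` normalizes the subgroups between `P` and `N_T(P)`. -/
theorem cen_le_normalizer (hTsc : F.StronglyClosed T) (hTC : IsTC F T P) (hPX : P ≤ X)
    (hX : X ≤ normalizerIn T P) : centralizerIn S P ≤ Subgroup.normalizer (X : Set Ω) := by
  intro u hu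
  have key : ∀ v ∈ centralizerIn S P, ∀ x ∈ X, v * x * v⁻¹ ∈ X := by
    intro v hv x hx
    have hc : v * x * v⁻¹ * x⁻¹ ∈ centralizerIn T P := by
      refine ⟨T.mul_mem (conj_mem_of_stronglyClosed hTsc hv.1 (hX hx).1) (T.inv_mem (hX hx).1),
        Subgroup.mem_centralizer_iff.2 fun y hy => ?_⟩
      have h1 : x⁻¹ * y * x ∈ P := (Subgroup.mem_normalizer_iff''.1 (hX hx).2 y).1 hy
      calc y * (v * x * v⁻¹ * x⁻¹) = (y * v) * x * v⁻¹ * x⁻¹ := by group
        _ = (v * y) * x * v⁻¹ * x⁻¹ := by rw [Subgroup.mem_centralizer_iff.1 hv.2 y hy]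
        _ = v * x * ((x⁻¹ * y * x) * v⁻¹) * x⁻¹ := by group
        _ = v * x * (v⁻¹ * (x⁻¹ * y * x)) * x⁻¹ := by
          rw [Subgroup.mem_centralizer_iff.1 (inv_mem hv.2) _ h1]
        _ = _ := by group
    have h2 := X.mul_mem (hPX (hTC.self hTsc.1 hc)) hx
    rwa [inv_mul_cancel_right] at h2
  refine Subgroup.mem_normalizer_iff.2 fun x => ⟨key u hu x, fun hx => ?_⟩
  have h1 := key u⁻¹ ((centralizerIn S P).inv_mem hu) _ hx
  simpa [mul_assoc] using h1

/-- Subgroups between a fully centralized `T`-centric `P` and `N_T(P)` are fully centralized. -/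
theorem isFullyCentralized_of_between (hS : IsPGroup p S) (hF : F.IsSaturated p)
    (hTsc : F.StronglyClosed T) (hP : F.IsFullyCentralized P) (hTC : IsTC F T P) (hPX : P ≤ X)
    (hX : X ≤ normalizerIn T P) : F.IsFullyCentralized X := by
  have hXS : X ≤ S := (hX.trans (normalizerIn_le T P)).trans hTsc.1
  refine ⟨hXS, fun R hR => ?_⟩
  obtain ⟨e, he⟩ := exists_iso_of_isConj hR
  set P' := (P.subgroupOf X).map (R.subtype.comp e.toMonoidHom)
  have hP'R : P' ≤ R := by
    rintro _ ⟨x, -, rfl⟩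
    exact (e x).2
  set f := restrictIso e hPX hP'R fun x => ⟨fun hx => by
    obtain ⟨z, hz, hzx⟩ := hx
    rw [← e.injective (Subtype.ext hzx)]
    exact hz, fun hx => ⟨x, hx, rfl⟩⟩ with hf
  have hfF : IsFIso F f := he.restrict hPX f fun _ => rfl
  have hRS : R ≤ S := he.le_right
  have hP'S : P' ≤ S := hP'R.trans hRS
  have hag : ∀ y : P', (X.subtype.comp e.symm.toMonoidHom) ⟨y, hP'R y.2⟩ = (f.symm y : Ω) := by
    intro y
    obtain ⟨x, rfl⟩ := f.surjective y
    rw [MulEquiv.symm_apply_apply]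
    show (e.symm (e ⟨(x : Ω), hPX x.2⟩) : Ω) = x
    rw [MulEquiv.symm_apply_apply]
  have hRN : R ≤ normalizerIn S P' := fun r hr => ⟨hRS hr, by
    have h1 := map_mem_normalizer_of_extends (ψ := R.subtype.comp e.toMonoidHom) (e := f) hPX
      (fun _ => rfl) (g := e.symm ⟨r, hr⟩) (e.symm ⟨r, hr⟩).2 (hX (e.symm ⟨r, hr⟩).2).2
    simpa using h1⟩
  have hCR : centralizerIn S R ≤ centralizerIn S P' :=
    inf_le_inf_left _ (Subgroup.centralizer_le hP'R)
  have hN : R ⊔ centralizerIn S R ≤ normalizerIn S P' :=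
    sup_le hRN (hCR.trans (centralizerIn_le_normalizerIn S P'))
  have hext : R ⊔ centralizerIn S R ≤ extender S P' (P.subtype.comp f.symm.toMonoidHom) := by
    refine sup_le (fun r hr => ?_) (hCR.trans (centralizerIn_le_extender _))
    refine (mem_extender_iff_congr f.symm (fun _ => rfl) (hRS hr) (hRN hr).2).2 ?_
    rw [congr_conjAut_eq_of_extends hP'R hag hr (hRN hr).2]
    exact conjAut_mem_autInducedBy (hXS (e.symm ⟨r, hr⟩).2) _
  obtain ⟨η, hη, -, hηag⟩ := hfF.symm.exists_extension (isReceptive_of_isFullyCentralized hS hF hP)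
    (hP'R.trans le_sup_left) hN
    fun g hg => (mem_extender_iff_congr f.symm (fun _ => rfl) (hN hg).1 (hN hg).2).1 (hext hg)
  have hRT : R ≤ T := conj_le hTsc (hX.trans (normalizerIn_le T P)) hR
  have hηR : ∀ r : R, η (Subgroup.inclusion le_sup_left r) ∈ X := by
    intro r
    set x := e.symm r
    have h1 := congr_conjAut_eq_of_extends (hP'R.trans le_sup_left) hηag
      (Subgroup.mem_sup_left r.2) (hRN r.2).2
    have h2 := congr_conjAut_eq_of_extends hP'R hag r.2 (hRN r.2).2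
    have hc : (x : Ω)⁻¹ * η (Subgroup.inclusion le_sup_left r) ∈ centralizerIn T P := by
      refine ⟨T.mul_mem (T.inv_mem (hX x.2).1) (stronglyClosed_apply_mem hTsc hη _ (hRT r.2)),
        (conjAut_eq_one_iff (mul_mem (inv_mem (hX x.2).2)
          (map_mem_normalizer_of_extends (hP'R.trans le_sup_left) hηag
            (Subgroup.mem_sup_left r.2) (hRN r.2).2))).1 ?_⟩
      rw [← conjAut_mul (inv_mem (hX x.2).2) (map_mem_normalizer_of_extends (hP'R.trans le_sup_left) hηag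
            (Subgroup.mem_sup_left r.2) (hRN r.2).2), ← conjAut_inv (hX x.2).2]
      exact inv_mul_eq_one.2 (h1.symm.trans h2).symm
    have h3 := X.mul_mem x.2 (hPX (hTC.self hTsc.1 hc))
    rwa [mul_inv_cancel_left] at h3
  have : Finite X := finite_of_le hXS
  have : Finite R := finite_of_le hRS
  have hbij : Function.Bijective (fun r : R => (⟨_, hηR r⟩ : X)) :=
    (Nat.bijective_iff_injective_and_card _).2 ⟨fun a b h =>
      Subgroup.inclusion_injective le_sup_left (hom_inj hη (Subtype.ext_iff.1 h :)),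
      (Nat.card_congr e.toEquiv).symm⟩
  have : Finite (centralizerIn S X) := finite_of_le (centralizerIn_le S X)
  refine Nat.card_le_card_of_injective (fun c : centralizerIn S R =>
    (⟨η (Subgroup.inclusion le_sup_right c), map_mem hη _, Subgroup.mem_centralizer_iff.2
      fun x hx => ?_⟩ : centralizerIn S X)) fun a b h =>
        Subgroup.inclusion_injective le_sup_right (hom_inj hη (Subtype.ext_iff.1 h :))
  obtain ⟨r, hr⟩ := hbij.2 ⟨x, hx⟩
  rw [← show η (Subgroup.inclusion le_sup_left r) = x from Subtype.ext_iff.1 hr, ← map_mul, ← map_mul]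
  exact congrArg η (Subtype.ext (Subgroup.mem_centralizer_iff.1 c.2.2 r r.2))

/-- `P` has a normalizer in `T` of largest order in its class. -/
def Good (F : Cfsg.FusionSystem S) (T P : Subgroup Ω) : Prop :=
  P ≤ T ∧ ∀ R, F.IsConj P R → Nat.card (normalizerIn T R) ≤ Nat.card (normalizerIn T P)

theorem good_of_isFullyNormalized (hS : IsPGroup p S) (hF : F.IsSaturated p)
    (hTsc : F.StronglyClosed T) (hP : F.IsFullyNormalized P) (hPT : P ≤ T) : Good F T P := by
  refine ⟨hPT, fun R hR => ?_⟩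
  obtain ⟨e, -, ψ, hψ, hψN, -⟩ := exists_normalizer_map hS hF hP (isConj_symm hR)
  have hle : normalizerIn T R ≤ normalizerIn S R := inf_le_inf_right _ hTsc.1
  have : Finite (normalizerIn T P) := finite_of_le ((normalizerIn_le T P).trans hTsc.1)
  exact Nat.card_le_card_of_injective (fun x : normalizerIn T R => (⟨ψ (Subgroup.inclusion hle x),
    stronglyClosed_apply_mem hTsc hψ _ x.2.1, (hψN _).2⟩ : normalizerIn T P)) fun a b hab =>
      Subgroup.inclusion_injective hle (hom_inj hψ (Subtype.ext_iff.1 hab :))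

/-- A good subgroup maps onto a fully normalized one with the whole normalizer in `T`. -/
theorem exists_good_map (hS : IsPGroup p S) (hF : F.IsSaturated p) (hTsc : F.StronglyClosed T)
    (hP : Good F T P) : ∃ (P₀ : Subgroup Ω) (e : P ≃* P₀) (hPS : P ≤ S),
      F.IsFullyNormalized P₀ ∧ IsFIso F e ∧ ∃ ψ ∈ F.Hom (normalizerIn S P),
        (∀ x : P, ψ ⟨x, le_normalizerIn hPS x.2⟩ = (e x : Ω)) ∧
        ∀ y ∈ normalizerIn T P₀, ∃ x : normalizerIn S P, (x : Ω) ∈ T ∧ ψ x = y := by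
  have hPS : P ≤ S := hP.1.trans hTsc.1
  obtain ⟨P₀, hc, hP₀⟩ := exists_isFullyNormalized F hPS
  obtain ⟨e, he, ψ, hψ, hψN, hag⟩ := exists_normalizer_map hS hF hP₀ hc
  refine ⟨P₀, e, hPS, hP₀, he, ψ, hψ, hag, fun y hy => ?_⟩
  have hle : normalizerIn T P ≤ normalizerIn S P := inf_le_inf_right _ hTsc.1
  have : Finite (normalizerIn T P₀) := finite_of_le ((normalizerIn_le T P₀).trans hTsc.1)
  have : Finite (normalizerIn T P) := finite_of_le ((normalizerIn_le T P).trans hTsc.1)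
  let k : normalizerIn T P → normalizerIn T P₀ := fun x => ⟨ψ (Subgroup.inclusion hle x),
    stronglyClosed_apply_mem hTsc hψ _ x.2.1, (hψN _).2⟩
  have hinj : Function.Injective k := fun a b hab =>
    Subgroup.inclusion_injective hle (hom_inj hψ (Subtype.ext_iff.1 hab :))
  have hb : Function.Bijective k := (Nat.bijective_iff_injective_and_card k).2
    ⟨hinj, le_antisymm (Nat.card_le_card_of_injective k hinj) (hP.2 P₀ he.isConj)⟩
  obtain ⟨x, hx⟩ := hb.2 ⟨y, hy⟩
  exact ⟨Subgroup.inclusion hle x, x.2.1, Subtype.ext_iff.1 hx⟩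

namespace Setup

variable {T₁ T₂ : Subgroup Ω} {D₁ : Cfsg.FusionSystem T₁} {D₂ : Cfsg.FusionSystem T₂}
variable (h : Setup F D₁ D₂ p)
include h

/-- `Aut_T(P)` is a Sylow subgroup of `gam P` for good `P`. -/
theorem gam_sylow_good (hP : Good F (T₁ ⊓ T₂) P) :
    IsSylowIn p (autInducedBy (T₁ ⊓ T₂) P) (h.gam P) := by
  obtain ⟨P₀, e, hPS, hP₀, he, ψ, hψ, hag, hsur⟩ := exists_good_map h.grp h.sat h.sc hP
  have : Finite P := finite_of_le hPS
  have : Finite (MulAut P) := finite_mulAut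
  have : Finite P₀ := finite_of_le hP₀.1
  have : Finite (MulAut P₀) := finite_mulAut
  have hP₀T : P₀ ≤ T₁ ⊓ T₂ := conj_le h.sc hP.1 he.isConj
  refine isSylowIn_of_card_le ((isPGroup_autInducedBy h.grp P).to_le (autInducedBy_mono h.le P))
    (h.autInducedBy_le_gam hPS) fun V hV hVg => ?_
  have h1 : Nat.card V ≤ Nat.card (autInducedBy (T₁ ⊓ T₂) P₀) := by
    rw [← Subgroup.card_map_of_injective (f := (MulAut.congr e).toMonoidHom)
      (MulAut.congr e).injective]
    exact (h.gam_sylow hP₀ hP₀T).card_le (h.autInducedBy_le_gam hP₀.1) (hV.map _) (by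
      rintro _ ⟨v, hv, rfl⟩
      exact h.gam_congr he (hVg hv))
  refine h1.trans ?_
  rw [← Subgroup.card_map_of_injective (f := (MulAut.congr e).toMonoidHom)
    (MulAut.congr e).injective (K := autInducedBy (T₁ ⊓ T₂) P)]
  refine Subgroup.card_le_of_le fun α hα => ?_
  obtain ⟨y, hyN, hyT, rfl⟩ := exists_eq_conjAut hα
  obtain ⟨x, hxT, rfl⟩ := hsur y ⟨hyT, hyN⟩
  exact ⟨conjAut P x x.2.2, conjAut_mem_autInducedBy hxT _,
    congr_conjAut_eq_of_extends (le_normalizerIn hPS) hag x.2 x.2.2⟩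

/-- A coprime automorphism of a common overgroup compatible at `Z` gives an element of `gam Y`. -/
theorem mem_gam_of_common (hY : F.IsFullyCentralized Y) (hZ : F.IsFullyCentralized Z)
    (hYT : Y ≤ T₁ ⊓ T₂) (hZT : Z ≤ T₁ ⊓ T₂) (hUS : U ≤ S) (hWY : Y ⊔ centralizerIn S Y ≤ U)
    (hWZ : Z ⊔ centralizerIn S Z ≤ U) (hN : U ≤ Subgroup.normalizer (Z : Set Ω)) {κ : MulAut U}
    (hκ : κ ∈ F.autGroup U) (hco : (orderOf κ).Coprime p) {a : MulAut Y}
    (ha : Agree (le_sup_left.trans hWY) κ a)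
    (hd : ∀ c (hc : c ∈ centralizerIn S Y),
      c⁻¹ * ((κ ⟨c, hWY (Subgroup.mem_sup_right hc)⟩ : U) : Ω) ∈ T₁ ⊓ T₂)
    {β : MulAut ↥(Z ⊔ centralizerIn S Z)} (hβ : β ∈ h.sideBoth hZ.1) (hag : Agree hWZ κ β) :
    a ∈ h.gam Y := by
  have hκh := (mem_autGroup_iff_hom hUS).1 hκ
  have hWYS := sup_centralizerIn_le hY.1
  have hY' : Y ≤ U := le_sup_left.trans hWY
  have hC' : centralizerIn S Y ≤ U := le_sup_right.trans hWY
  have hcen : ∀ c : centralizerIn S Y,
      ((κ (Subgroup.inclusion hC' c) : U) : Ω) ∈ centralizerIn S Y := by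
    intro c
    refine ⟨hUS (κ _).2, Subgroup.mem_centralizer_iff.2 fun y hy => ?_⟩
    obtain ⟨x, hx⟩ := a.surjective ⟨y, hy⟩
    have h1 : Subgroup.inclusion hY' x * Subgroup.inclusion hC' c =
        Subgroup.inclusion hC' c * Subgroup.inclusion hY' x :=
      Subtype.ext (Subgroup.mem_centralizer_iff.1 c.2.2 x x.2)
    have h2 := congrArg κ h1
    rw [map_mul, map_mul, ha, hx] at h2
    exact congrArg Subtype.val h2
  obtain ⟨β', hβ', hβ'x⟩ := LayerCore.exists_aut_of_mapsTo (restrict_mem hκh hWY)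
    (forall_mem_of_sup (φ := (U.subtype.comp κ.toMonoidHom).comp (Subgroup.inclusion hWY))
      (fun y => by
        show ((κ (Subgroup.inclusion hY' y) : U) : Ω) ∈ _
        rw [ha]
        exact Subgroup.mem_sup_left (a y).2)
      fun c => Subgroup.mem_sup_right (hcen c))
  have haY : ∀ y : Y, β' (Subgroup.inclusion le_sup_left y) = Subgroup.inclusion le_sup_left (a y) :=
    fun y => Subtype.ext ((hβ'x _).trans (congrArg Subtype.val (ha y) :))
  have hst : ∀ x : ↥(Y ⊔ centralizerIn S Y),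
      ((β' x : ↥(Y ⊔ centralizerIn S Y)) : Ω) ∈ Y ↔ (x : Ω) ∈ Y := by
    intro x
    constructor
    · intro hx
      have h1 := haY (a⁻¹ ⟨_, hx⟩)
      rw [MulAut.apply_inv_self] at h1
      rw [← β'.injective (h1.trans (Subtype.ext rfl) : β' _ = β' x)]
      exact (a⁻¹ ⟨_, hx⟩).2
    · intro hx
      have h1 := haY ⟨_, hx⟩
      rw [show x = Subgroup.inclusion le_sup_left (⟨(x : Ω), hx⟩ : Y) from rfl, h1]
      exact (a _).2
  have hdisp : ∀ c : ↥(Y ⊔ centralizerIn S Y), (c : Ω) ∈ centralizerIn S Y →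
      ((c⁻¹ * β' c : ↥(Y ⊔ centralizerIn S Y)) : Ω) ∈ T₁ ⊓ T₂ := by
    intro c hc
    show (c : Ω)⁻¹ * ((β' c : ↥(Y ⊔ centralizerIn S Y)) : Ω) ∈ T₁ ⊓ T₂
    rw [hβ'x]
    exact hd c hc
  have side : ∀ {A : Subgroup Ω} (DA : Cfsg.FusionSystem A) (hA : F.StronglyClosed A),
      DA.IsInvariantIn F → DA.IsSaturated p → T₁ ⊓ T₂ ≤ A → β ∈ sideAut F DA hA.1 hZ.1 →
      β' ∈ sideAut F DA hA.1 hY.1 := by
    intro A DA hA hinv hsat hTA hβA
    refine mem_sideAut.2 ⟨hβ', hst, fun c hc => hTA (hdisp c hc), ?_⟩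
    have hAS : A ≤ S := hA.1
    have : Finite A := finite_of_le hAS
    have hUA : U ⊓ A ≤ A := inf_le_right
    obtain ⟨κA, hκA, hκAx⟩ := LayerCore.exists_aut_of_mapsTo
      (restrict_mem hκh (inf_le_left : U ⊓ A ≤ U)) fun x =>
        ⟨(κ (Subgroup.inclusion inf_le_left x)).2,
          stronglyClosed_apply_mem hA hκh (Subgroup.inclusion inf_le_left x) x.2.2⟩
    have hκAa : Agree inf_le_left κ κA := fun x => Subtype.ext (hκAx x).symm
    have hCA : centralizerIn A Z ≤ centralizerIn S Z := inf_le_inf_right _ hAS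
    have hVU : Z ⊔ centralizerIn A Z ≤ U ⊓ A :=
      sup_le (le_inf (le_sup_left.trans hWZ) (hZT.trans hTA))
        (le_inf (hCA.trans (le_sup_right.trans hWZ)) (centralizerIn_le A Z))
    obtain ⟨-, -, -, γ, hγ, hγag⟩ := mem_sideAut.1 hβA
    have hκD := coprime_mem_of_centric h.grp hsat hinv hUA
      (isCentric_sup_of_subsystem h.grp h.sat hZ hA hinv.1 (hZT.trans hTA)) hVU
      (fun g hg => normalizer_sup_of_mem (hN hg.1) (mem_normalizer_centralizerIn hg.2 (hN hg.1)))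
      hκA (coprime_of_agree inf_le_left hκAa hco) hγ fun v => by
        refine Subtype.ext ((hκAx _).trans ?_)
        show ((κ (Subgroup.inclusion hWZ (Subgroup.inclusion (sup_cen_mono hAS) v)) : U) : Ω) = _
        rw [hag, hγag]
        rfl
    have hCAY : centralizerIn A Y ≤ centralizerIn S Y := inf_le_inf_right _ hAS
    have hVY : Y ⊔ centralizerIn A Y ≤ U ⊓ A :=
      sup_le (le_inf hY' (hYT.trans hTA))
        (le_inf (hCAY.trans hC') (centralizerIn_le A Y))
    have hres := restrict_mem ((mem_autGroup_iff_hom hUA).1 hκD) hVY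
    obtain ⟨γ', hγ', hγ'x⟩ := LayerCore.exists_aut_of_mapsTo hres
      (forall_mem_of_sup
        (φ := ((U ⊓ A).subtype.comp κA.toMonoidHom).comp (Subgroup.inclusion hVY))
        (fun y => by
          show ((κA _ : ↥(U ⊓ A)) : Ω) ∈ _
          rw [hκAx]
          show ((κ (Subgroup.inclusion hY' y) : U) : Ω) ∈ _
          rw [ha]
          exact Subgroup.mem_sup_left (a y).2)
        fun c => by
          show ((κA _ : ↥(U ⊓ A)) : Ω) ∈ _
          rw [hκAx]
          exact Subgroup.mem_sup_right ⟨stronglyClosed_apply_mem hA hκh _ c.2.1,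
            (hcen ⟨(c : Ω), hCAY c.2⟩).2⟩)
    exact ⟨γ', hγ', fun v => Subtype.ext ((hβ'x _).trans ((hγ'x v).trans (hκAx _)).symm)⟩
  refine h.mem_gam_of_liftAut hY ⟨β', ⟨side D₁ h.sc₁ h.inv₁ h.nor₁.1 inf_le_left hβ.1,
    side D₂ h.sc₂ h.inv₂ h.nor₂.1 inf_le_right hβ.2⟩, haY⟩
    (coprime_of_agree (le_sup_left.trans hWY) ha hco)

/-- Extension of coprime elements normalizing `Aut_X(P)`. -/
theorem up_coprime (hP : F.IsFullyCentralized P) (hTC : IsTC F (T₁ ⊓ T₂) P) (hPX : P ≤ X)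
    (hX : X ≤ normalizerIn (T₁ ⊓ T₂) P) {a : MulAut P} (ha : a ∈ h.gam P)
    (hco : (orderOf a).Coprime p)
    (hn : ∀ x (hx : x ∈ X), a * conjAut P x (hX hx).2 * a⁻¹ ∈ autInducedBy X P) :
    ∃ b ∈ h.gam X, Agree hPX b a := by
  have hXT : X ≤ T₁ ⊓ T₂ := hX.trans (normalizerIn_le _ _)
  have hXS : X ≤ S := hXT.trans h.le
  set W := P ⊔ centralizerIn S P with hW
  obtain ⟨β, hβ, hβco, hβx⟩ := h.exists_coprime_lift (h.gam_le_liftAut hTC.1 hP ha) hco
  have hWc : F.IsCentric W := isCentric_sup h.grp h.sat hP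
  have hCN : centralizerIn S P ≤ Subgroup.normalizer (X : Set Ω) :=
    cen_le_normalizer h.sc hTC hPX hX
  set U := X ⊔ centralizerIn S P with hU
  have hWU : W ≤ U := sup_le_sup_right hPX _
  have hUN : U ≤ normalizerIn S W :=
    sup_le (fun x hx => ⟨hXS hx, normalizer_sup_centralizerIn (hXS hx) (hX hx).2⟩)
      fun c hc => ⟨hc.1, Subgroup.le_normalizer (Subgroup.mem_sup_right hc)⟩
  have hUS : U ≤ S := hUN.trans (normalizerIn_le S W)
  have hUT : ∀ g ∈ U, g ∈ T₁ ⊓ T₂ → g ∈ X := by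
    intro g hg hgT
    rw [← SetLike.mem_coe, hU, Subgroup.coe_mul_of_right_le_normalizer_left X _ hCN] at hg
    obtain ⟨x, hx, c, hc, rfl⟩ := hg
    refine X.mul_mem hx (hPX (hTC.self h.le ⟨?_, hc.2⟩))
    have h1 := (T₁ ⊓ T₂).mul_mem ((T₁ ⊓ T₂).inv_mem (hXT hx)) hgT
    rwa [inv_mul_cancel_left] at h1
  obtain ⟨κ, hκ, hκco, hκW⟩ := exists_aut_sup h.grp h.sat hWc (h.sideBoth_le hP.1 hβ).1 hβco hWU hUN
    fun g hg => by
    let K : Subgroup (Subgroup.normalizer (W : Set Ω)) :=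
      (autInducedBy U W).comap ((MulAut.conj β).toMonoidHom.comp W.normalizerMonoidHom)
    have hK : U ≤ K.map (Subgroup.normalizer (W : Set Ω)).subtype := by
      refine sup_le (fun x hx => ?_) fun c hc => ?_
      · have hxW := (hUN (Subgroup.mem_sup_left hx)).2
        obtain ⟨x', hx'N, hx', hx'eq⟩ := exists_eq_conjAut (hn x hx)
        have hx'W := normalizer_sup_centralizerIn (hXS hx') hx'N
        set δ := (conjAut W x' hx'W)⁻¹ * (β * conjAut W x hxW * β⁻¹) with hδ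
        have hδs : δ ∈ h.sideBoth hP.1 := mul_mem
          ((h.sideBoth hP.1).inv_mem (h.conjAut_mem_sideBoth hTC.1 (hXT hx') hx'N hx'W))
          (mul_mem (mul_mem hβ (h.conjAut_mem_sideBoth hTC.1 (hXT hx) (hX hx).2 hxW))
            ((h.sideBoth hP.1).inv_mem hβ))
        have hδa : Agree (le_sup_left : P ≤ W) δ
            ((conjAut P x' hx'N)⁻¹ * (a * conjAut P x (hX hx).2 * a⁻¹)) :=
          (agree_conjAut _ hx'W hx'N).inv.mul
            ((Agree.mul (hQW := le_sup_left) hβx (agree_conjAut _ hxW (hX hx).2)).mul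
              (Agree.inv (hQW := le_sup_left) hβx))
        rw [← hx'eq, inv_mul_cancel] at hδa
        obtain ⟨c, hcN, hc, hceq⟩ := exists_eq_conjAut
          (h.exists_conjAut_of_fix hP hTC ⟨(h.sideBoth_le hP.1 hδs).1, hδa⟩ hδs)
        refine ⟨⟨x, hxW⟩, ?_, rfl⟩
        show β * conjAut W x hxW * β⁻¹ ∈ autInducedBy U W
        rw [show β * conjAut W x hxW * β⁻¹ = conjAut W x' hx'W * δ by rw [hδ, mul_inv_cancel_left],
          hceq, conjAut_mul]
        exact conjAut_mem_autInducedBy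
          (U.mul_mem (Subgroup.mem_sup_left hx') (Subgroup.mem_sup_right hc)) _
      · have hcW : c ∈ W := Subgroup.mem_sup_right hc
        refine ⟨⟨c, Subgroup.le_normalizer hcW⟩, ?_, rfl⟩
        show β * conjAut W c _ * β⁻¹ ∈ autInducedBy U W
        rw [conj_conjAut_self β ⟨c, hcW⟩ _ (Subgroup.le_normalizer (β ⟨c, hcW⟩).2)]
        exact conjAut_mem_autInducedBy (hWU (β ⟨c, hcW⟩).2) _
    obtain ⟨g', hg', hgg⟩ := hK hg
    subst hgg
    exact hg'
  have hκh := (mem_autGroup_iff_hom hUS).1 hκ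
  have hXU : X ≤ U := le_sup_left
  obtain ⟨b, hb, hbx⟩ := LayerCore.exists_aut_of_mapsTo (restrict_mem hκh hXU) fun x =>
    hUT _ (κ (Subgroup.inclusion hXU x)).2
      (stronglyClosed_apply_mem h.sc hκh (Subgroup.inclusion hXU x) (hXT x.2))
  have hCX : centralizerIn S X ≤ centralizerIn S P :=
    inf_le_inf_left _ (Subgroup.centralizer_le hPX)
  refine ⟨b, h.mem_gam_of_common (isFullyCentralized_of_between h.grp h.sat h.sc hP hTC hPX hX) hP
    hXT hTC.1 hUS (sup_le le_sup_left (hCX.trans le_sup_right)) hWU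
    (sup_le (hX.trans inf_le_right) fun c hc => centralizer_le_normalizer P hc.2) hκ hκco
    (fun x => Subtype.ext (hbx x).symm) (fun c hc => ?_) hβ hκW, fun y => Subtype.ext ?_⟩
  · have hcW : c ∈ W := Subgroup.mem_sup_right (hCX hc)
    have h1 := hκW ⟨c, hcW⟩
    rw [show (κ ⟨c, _⟩ : U) = _ from h1]
    exact h.sideBoth_disp hβ (c := ⟨c, hcW⟩) (hCX hc)
  · refine (hbx _).trans ?_
    show ((κ (Subgroup.inclusion hWU (Subgroup.inclusion le_sup_left y)) : U) : Ω) = _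
    rw [hκW, hβx]
    rfl

/-- Restriction of coprime elements of `gam X` stabilizing `P`. -/
theorem down_coprime (hP : F.IsFullyCentralized P) (hTC : IsTC F (T₁ ⊓ T₂) P) (hPX : P ≤ X)
    (hX : X ≤ normalizerIn (T₁ ⊓ T₂) P)
    (hsyl : IsSylowIn p (pairAut (T₁ ⊓ T₂) X P) (h.gam X ⊓ setStab X P))
    {b : MulAut X} (hb : b ∈ h.gam X) (hbst : b ∈ setStab X P) (hco : (orderOf b).Coprime p) :
    resHom hPX ⟨b, hbst⟩ ∈ h.gam P := by
  have hXT : X ≤ T₁ ⊓ T₂ := hX.trans (normalizerIn_le _ _)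
  have hXS : X ≤ S := hXT.trans h.le
  have : Finite X := finite_of_le hXS
  have : Finite (MulAut X) := finite_mulAut
  have hXc : F.IsFullyCentralized X := isFullyCentralized_of_between h.grp h.sat h.sc hP hTC hPX hX
  set W := X ⊔ centralizerIn S X with hW
  obtain ⟨β, hβ, hβco, hβx⟩ := h.exists_coprime_lift (h.gam_le_liftAut hXT hXc hb) hco
  set a := resHom hPX ⟨b, hbst⟩ with hadef
  have hba : Agree hPX b a := fun y => Subtype.ext rfl
  have hWc : F.IsCentric W := isCentric_sup h.grp h.sat hXc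
  have hCN : centralizerIn S P ≤ Subgroup.normalizer (X : Set Ω) :=
    cen_le_normalizer h.sc hTC hPX hX
  have hCX : centralizerIn S X ≤ centralizerIn S P :=
    inf_le_inf_left _ (Subgroup.centralizer_le hPX)
  set U := X ⊔ centralizerIn S P with hU
  have hWU : W ≤ U := sup_le le_sup_left (hCX.trans le_sup_right)
  have hUN : U ≤ normalizerIn S W :=
    sup_le (fun x hx => ⟨hXS hx, normalizer_sup_centralizerIn (hXS hx) (Subgroup.le_normalizer hx)⟩)
      fun c hc => ⟨hc.1, normalizer_sup_centralizerIn hc.1 (hCN hc)⟩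
  have hUS : U ≤ S := hUN.trans (normalizerIn_le S W)
  -- elements fixing `P` are inner by `Z(P)`
  set N : Subgroup (MulAut X) :=
    { carrier := {γ | γ ∈ h.gam X ⊓ setStab X P ∧
        ∀ y : P, γ (Subgroup.inclusion hPX y) = Subgroup.inclusion hPX y}
      one_mem' := ⟨one_mem _, fun _ => rfl⟩
      mul_mem' := by
        rintro γ γ' ⟨h1, h2⟩ ⟨h3, h4⟩
        exact ⟨mul_mem h1 h3, fun y => by rw [MulAut.mul_apply, h4, h2]⟩
      inv_mem' := by
        rintro γ ⟨h1, h2⟩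
        exact ⟨inv_mem h1, fun y => γ.injective (by rw [MulAut.apply_inv_self, h2])⟩ } with hN
  have hNp : IsPGroup p N := Stability.isPGroup_of_coprime_eq_one fun γ hγ => by
    rw [← Subgroup.orderOf_coe] at hγ
    refine Subtype.ext (MulEquiv.ext fun x => ?_)
    refine Stability.eq_self_of_disp_fixed (h.grp.to_le hXS) _ hγ ?_
    have hd : ((x⁻¹ * (γ : MulAut X) x : X) : Ω) ∈ centralizerIn (T₁ ⊓ T₂) P := by
      refine ⟨hXT (x⁻¹ * (γ : MulAut X) x).2, Subgroup.mem_centralizer_iff.2 fun y hy => ?_⟩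
      have hyx : (x : Ω) * y * (x : Ω)⁻¹ ∈ P := conj_mem_of_mem_normalizer (hX x.2).2 hy
      have h1 := γ.2.2 ⟨_, hyx⟩
      rw [show Subgroup.inclusion hPX (⟨_, hyx⟩ : P) = x * Subgroup.inclusion hPX ⟨y, hy⟩ * x⁻¹ from
        Subtype.ext rfl, map_mul, map_mul, map_inv, γ.2.2 ⟨y, hy⟩] at h1
      have h2 : ((γ : MulAut X) x : Ω) * y * ((γ : MulAut X) x : Ω)⁻¹ = (x : Ω) * y * (x : Ω)⁻¹ :=
        congrArg Subtype.val h1
      show y * ((x : Ω)⁻¹ * ((γ : MulAut X) x : Ω)) = (x : Ω)⁻¹ * ((γ : MulAut X) x : Ω) * y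
      calc y * ((x : Ω)⁻¹ * ((γ : MulAut X) x : Ω))
          = (x : Ω)⁻¹ * ((x : Ω) * y * (x : Ω)⁻¹) * ((γ : MulAut X) x : Ω) := by group
        _ = _ := by rw [← h2]; group
    exact γ.2.2 ⟨_, hTC.self h.le hd⟩
  have hNinn : ∀ γ ∈ N, ∃ z, ∃ hz : z ∈ Subgroup.normalizer (X : Set Ω),
      z ∈ P ∧ γ = conjAut X z hz := by
    intro γ hγ
    obtain ⟨m, hm, hmU⟩ := hsyl.exists_conj_le hNp fun _ h' => h'.1
    have hmem : m⁻¹ * γ * m ∈ N := by
      refine ⟨mul_mem (mul_mem ((h.gam X ⊓ setStab X P).inv_mem hm) hγ.1) hm, fun y => ?_⟩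
      set r := resHom hPX ⟨m, hm.2⟩
      have hmy : m (Subgroup.inclusion hPX y) = Subgroup.inclusion hPX (r y) := Subtype.ext rfl
      rw [MulAut.mul_apply, MulAut.mul_apply, hmy, hγ.2, ← hmy, MulAut.inv_apply_self]
    have h1 := hmU _ hmem
    rw [show m * (m⁻¹ * γ * m) * m⁻¹ = γ by group] at h1
    obtain ⟨t, htX, htT, rfl⟩ := exists_eq_conjAut h1.1
    refine ⟨t, htX, hTC.self h.le ⟨htT, Subgroup.mem_centralizer_iff.2 fun y hy => ?_⟩, rfl⟩
    have h2 : t * y * t⁻¹ = y := congrArg Subtype.val (hγ.2 ⟨y, hy⟩)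
    calc y * t = t * y * t⁻¹ * t := by rw [h2]
      _ = t * y := by group
  have hactC : ∀ u (hu : u ∈ centralizerIn S P), ∃ v ∈ W, ∃ hN : v * u ∈
      Subgroup.normalizer (W : Set Ω), β * conjAut W u (hUN (Subgroup.mem_sup_right hu)).2 * β⁻¹ =
        conjAut W (v * u) hN := by
    intro u hu
    have huX : u ∈ Subgroup.normalizer (X : Set Ω) := hCN hu
    have huW := (hUN (Subgroup.mem_sup_right hu)).2
    have huS := hu.1
    set e := conjAut W u huW with he
    have heG : e ∈ pairStab F W X := ⟨autInducedBy_le_autGroup F (sup_centralizerIn_le hXS)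
      (conjAut_mem_autInducedBy huS huW), conjAut_mem_setStab huW huX⟩
    set δ := β * (e * β⁻¹ * e⁻¹) with hδ
    have hδs : δ ∈ h.sideBoth hXc.1 :=
      mul_mem hβ (h.sideBoth_conj hXT heG ((h.sideBoth hXc.1).inv_mem hβ))
    set cu := conjAut X u huX with hcu
    set d := b * (cu * b⁻¹ * cu⁻¹) with hd
    have hδd : Agree (le_sup_left : X ≤ W) δ d :=
      Agree.mul (hQW := le_sup_left) hβx (((agree_conjAut _ huW huX).mul
        (Agree.inv (hQW := le_sup_left) hβx)).mul (agree_conjAut _ huW huX).inv)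
    have huP : ∀ y : P, cu (Subgroup.inclusion hPX y) = Subgroup.inclusion hPX y := fun y =>
      Subtype.ext (by
        show u * (y : Ω) * u⁻¹ = y
        rw [← Subgroup.mem_centralizer_iff.1 hu.2 y y.2, mul_inv_cancel_right])
    have huP' : ∀ y : P, cu⁻¹ (Subgroup.inclusion hPX y) = Subgroup.inclusion hPX y := fun y =>
      cu.injective (by rw [MulAut.apply_inv_self, huP])
    have hcust : cu ∈ setStab X P := conjAut_mem_setStab huX (centralizer_le_normalizer P hu.2)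
    have hdN : d ∈ N := by
      refine ⟨⟨mul_mem hb (h.gam_conj hXS (autInducedBy_le_autGroup F hXS
        (conjAut_mem_autInducedBy huS huX)) ((h.gam X).inv_mem hb)),
        mul_mem hbst (mul_mem (mul_mem hcust ((setStab X P).inv_mem hbst))
          ((setStab X P).inv_mem hcust))⟩, fun y => ?_⟩
      rw [hd, MulAut.mul_apply, MulAut.mul_apply, MulAut.mul_apply, huP', hba.inv, huP, hba,
        MulAut.apply_inv_self]
    obtain ⟨z, hzX, hzP, hdz⟩ := hNinn d hdN
    have hzW : z ∈ W := Subgroup.mem_sup_left (hPX hzP)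
    set ε := δ * (conjAut W z (Subgroup.le_normalizer hzW))⁻¹
    have hεs : ε ∈ h.sideBoth hXc.1 := mul_mem hδs ((h.sideBoth hXc.1).inv_mem
      (h.conjAut_mem_sideBoth hXT (hTC.1 hzP) hzX _))
    have hεd : Agree (le_sup_left : X ≤ W) ε (d * (conjAut X z hzX)⁻¹) :=
      hδd.mul (agree_conjAut _ _ hzX).inv
    rw [hdz, mul_inv_cancel] at hεd
    obtain ⟨c, hcN, hc, hceq⟩ := exists_eq_conjAut
      (h.exists_conjAut_of_fix hXc (hTC.mono hPX hXT) ⟨(h.sideBoth_le hXc.1 hεs).1, hεd⟩ hεs)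
    refine ⟨c * z, W.mul_mem (Subgroup.mem_sup_right hc) hzW,
      mul_mem (mul_mem hcN (Subgroup.le_normalizer hzW)) huW, ?_⟩
    rw [show β * conjAut W u (hUN (Subgroup.mem_sup_right hu)).2 * β⁻¹ =
        ε * conjAut W z (Subgroup.le_normalizer hzW) * e by
      show β * e * β⁻¹ = _
      rw [inv_mul_cancel_right, hδ]
      group, hceq, conjAut_mul, conjAut_mul]
  obtain ⟨κ, hκ, hκco, hκW⟩ := exists_aut_sup h.grp h.sat hWc (h.sideBoth_le hXc.1 hβ).1 hβco hWU hUN
    fun g hg => by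
    let K : Subgroup (Subgroup.normalizer (W : Set Ω)) :=
      (autInducedBy U W).comap ((MulAut.conj β).toMonoidHom.comp W.normalizerMonoidHom)
    have hK : U ≤ K.map (Subgroup.normalizer (W : Set Ω)).subtype := by
      refine sup_le (fun x hx => ?_) fun c hc => ?_
      · have hxW : x ∈ W := Subgroup.mem_sup_left hx
        refine ⟨⟨x, Subgroup.le_normalizer hxW⟩, ?_, rfl⟩
        show β * conjAut W x _ * β⁻¹ ∈ autInducedBy U W
        rw [conj_conjAut_self β ⟨x, hxW⟩ _ (Subgroup.le_normalizer (β ⟨x, hxW⟩).2)]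
        exact conjAut_mem_autInducedBy (hWU (β ⟨x, hxW⟩).2) _
      · obtain ⟨v, hv, hvN, hveq⟩ := hactC c hc
        refine ⟨⟨c, (hUN (Subgroup.mem_sup_right hc)).2⟩, ?_, rfl⟩
        show β * conjAut W c _ * β⁻¹ ∈ autInducedBy U W
        rw [hveq]
        exact conjAut_mem_autInducedBy (U.mul_mem (hWU hv) (Subgroup.mem_sup_right hc)) _
    obtain ⟨g', hg', hgg⟩ := hK hg
    subst hgg
    exact hg'
  have hκh := (mem_autGroup_iff_hom hUS).1 hκ
  have : Finite U := finite_of_le hUS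
  have hκX : ∀ x : X, κ (Subgroup.inclusion le_sup_left x) =
      Subgroup.inclusion le_sup_left (b x) := fun x => by
    show κ (Subgroup.inclusion hWU (Subgroup.inclusion le_sup_left x)) = _
    rw [hκW, hβx]
    rfl
  have hUP : U ≤ Subgroup.normalizer (P : Set Ω) :=
    sup_le (hX.trans inf_le_right) fun c hc => centralizer_le_normalizer P hc.2
  refine h.mem_gam_of_common hP hXc hTC.1 hXT hUS (sup_le_sup_right hPX _) hWU
    (sup_le Subgroup.le_normalizer hCN) hκ hκco (fun y => ?_) (fun u hu => ?_) hβ hκW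
  · show κ (Subgroup.inclusion le_sup_left (Subgroup.inclusion hPX y)) = _
    rw [hκX, hba]
    rfl
  · have huU : u ∈ U := Subgroup.mem_sup_right hu
    obtain ⟨v, hv, hvN, hveq⟩ := hactC u hu
    have hk := congr_conjAut_eq_of_extends (ψ := U.subtype.comp κ.toMonoidHom)
      (e := (β : W ≃* W)) hWU (fun w => congrArg Subtype.val (hκW w)) huU (hUN huU).2
    rw [congr_eq_conj, hveq] at hk
    have h1 := centralizerIn_le_of_isCentric hWc (inv_mul_mem_centralizerIn hUS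
      (U.mul_mem (hWU hv) huU) (κ ⟨u, huU⟩).2 hk)
    have h2 : u⁻¹ * v * u ∈ W := by
      simpa using conj_mem_of_mem_normalizer (inv_mem (hUN huU).2) hv
    have hx : ((⟨u, huU⟩ : U)⁻¹ * κ ⟨u, huU⟩ : U) ∈ W.subgroupOf U := by
      rw [Subgroup.mem_subgroupOf]
      show u⁻¹ * ((κ ⟨u, huU⟩ : U) : Ω) ∈ W
      rw [show u⁻¹ * ((κ ⟨u, huU⟩ : U) : Ω) =
        (u⁻¹ * v * u) * ((v * u)⁻¹ * ((κ ⟨u, huU⟩ : U) : Ω)) by group]
      exact W.mul_mem h2 h1
    set TU := (T₁ ⊓ T₂).subgroupOf U with hTU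
    have hTUn : TU.Normal := ⟨fun t ht g => conj_mem_of_stronglyClosed h.sc (hUS g.2) ht⟩
    have hLdisp : ∀ w ∈ W.subgroupOf U, w⁻¹ * κ w ∈ TU := by
      intro w hw
      have heq : ∀ x : W, QuotientGroup.mk' TU (Subgroup.inclusion hWU x) =
          QuotientGroup.mk' TU (κ (Subgroup.inclusion hWU x)) := by
        refine eq_of_agree_sup (f := (QuotientGroup.mk' TU).comp (Subgroup.inclusion hWU))
          (g := (QuotientGroup.mk' TU).comp (κ.toMonoidHom.comp (Subgroup.inclusion hWU)))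
          (fun x => QuotientGroup.eq.2 ?_) fun c => QuotientGroup.eq.2 ?_
        · show (x : Ω)⁻¹ * ((κ (Subgroup.inclusion le_sup_left x) : U) : Ω) ∈ T₁ ⊓ T₂
          rw [hκX]
          exact (T₁ ⊓ T₂).mul_mem ((T₁ ⊓ T₂).inv_mem (hXT x.2)) (hXT (b x).2)
        · show (c : Ω)⁻¹ * ((κ (Subgroup.inclusion hWU (Subgroup.inclusion le_sup_right c)) : U) :
            Ω) ∈ T₁ ⊓ T₂
          rw [hκW]
          exact h.sideBoth_disp hβ (c := Subgroup.inclusion le_sup_right c) c.2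
      exact QuotientGroup.eq.1 (heq ⟨(w : Ω), hw⟩)
    exact CenNormal.disp_mem_of_disp (h.grp.to_le hUS) κ hκco
      (fun x hx' => Stability.aut_mem h.sc hUS hκ hx') hLdisp hx

/-- Restriction from `gam X` to `gam P`. -/
theorem down_fc (hP : F.IsFullyCentralized P) (hTC : IsTC F (T₁ ⊓ T₂) P) (hPX : P ≤ X)
    (hX : X ≤ normalizerIn (T₁ ⊓ T₂) P)
    (hsyl : IsSylowIn p (pairAut (T₁ ⊓ T₂) X P) (h.gam X ⊓ setStab X P))
    {b : MulAut X} (hb : b ∈ h.gam X ⊓ setStab X P) : resHom hPX ⟨b, hb.2⟩ ∈ h.gam P := by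
  have hXS : X ≤ S := (hX.trans (normalizerIn_le _ _)).trans h.le
  have : Finite X := finite_of_le hXS
  have : Finite (MulAut X) := finite_mulAut
  set M := (h.gam P).comap ((resHom hPX).comp
    (Subgroup.inclusion (inf_le_right : h.gam X ⊓ setStab X P ≤ setStab X P))) with hM
  obtain ⟨Sy, hSy⟩ := hsyl
  suffices hMt : M = ⊤ by
    exact (hMt.symm ▸ Subgroup.mem_top _ : (⟨b, hb⟩ : ↥(h.gam X ⊓ setStab X P)) ∈ M)
  refine LayerCore.eq_top_of_sylow_of_coprime M Sy (fun c hc => ?_) fun c hc => ?_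
  · rw [hSy] at hc
    obtain ⟨t, ht, htx⟩ := mem_autInducedBy_iff.1
      (show (c : MulAut X) ∈ autInducedBy (T₁ ⊓ T₂) X from hc.1)
    exact h.autInducedBy_le_gam (hPX.trans hXS)
      (mem_autInducedBy_iff.2 ⟨t, ht, fun y => htx (Subgroup.inclusion hPX y)⟩)
  · exact h.down_coprime hP hTC hPX hX ⟨Sy, hSy⟩ c.2.1 c.2.2 (by rwa [Subgroup.orderOf_coe])

/-- Restriction from `gam X` to `gam P` when the pair has a Sylow subgroup in `T`. -/
theorem down (hTC : IsTC F (T₁ ⊓ T₂) P) (hPX : P ≤ X)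
    (hX : X ≤ normalizerIn (T₁ ⊓ T₂) P)
    (hsyl : IsSylowIn p (pairAut (T₁ ⊓ T₂) X P) (h.gam X ⊓ setStab X P))
    {b : MulAut X} (hb : b ∈ h.gam X ⊓ setStab X P) : resHom hPX ⟨b, hb.2⟩ ∈ h.gam P := by
  have hPS : P ≤ S := hTC.1.trans h.le
  obtain ⟨P₀, hc, hP₀⟩ := exists_isFullyNormalized F hPS
  obtain ⟨e, he, ψ, hψ, hψN, hag⟩ := exists_normalizer_map h.grp h.sat hP₀ hc
  have hXN : X ≤ normalizerIn S P := hX.trans (inf_le_inf_right _ h.le)
  set X₀ := (ψ.comp (Subgroup.inclusion hXN)).range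
  obtain ⟨eX, l, heX⟩ := exists_linked_of_map (restrict_mem hψ hXN) e hPX
    (hX.trans inf_le_right) fun x => hag x
  have hX₀ : X₀ ≤ normalizerIn (T₁ ⊓ T₂) P₀ := by
    rintro _ ⟨x, rfl⟩
    exact ⟨stronglyClosed_apply_mem h.sc hψ (Subgroup.inclusion hXN x) (hX x.2).1, (hψN _).2⟩
  have : Finite X := finite_of_le (hXN.trans (normalizerIn_le S P))
  have : Finite (MulAut X) := finite_mulAut
  have hX₀S : X₀ ≤ S := (hX₀.trans (normalizerIn_le _ _)).trans h.le
  have : Finite X₀ := finite_of_le hX₀S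
  have : Finite (MulAut X₀) := finite_mulAut
  have hpair : ∀ σ ∈ pairAut (T₁ ⊓ T₂) X P, MulAut.congr eX σ ∈ pairAut (T₁ ⊓ T₂) X₀ P₀ := by
    intro σ hσ
    obtain ⟨t, htX, htT, rfl⟩ := exists_eq_conjAut hσ.1
    have htP := mem_normalizer_of_conjAut_mem_setStab hPX htX hσ.2
    refine ⟨?_, l.congr_mem_setStab hσ.2⟩
    have htm : t ∈ normalizerIn S P := ⟨h.le htT, htP⟩
    rw [congr_conjAut_eq_of_extends hXN (ψ := ψ) (fun x => (heX x).symm) htm htX]
    exact conjAut_mem_autInducedBy (stronglyClosed_apply_mem h.sc hψ ⟨t, htm⟩ htT) _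
  have hsyl₀ : IsSylowIn p (pairAut (T₁ ⊓ T₂) X₀ P₀) (h.gam X₀ ⊓ setStab X₀ P₀) := by
    refine isSylowIn_of_card_le ((isPGroup_autInducedBy (h.grp.to_le h.le) X₀).to_le inf_le_left)
      (fun σ hσ => ⟨h.autInducedBy_le_gam hX₀S hσ.1, hσ.2⟩) fun V hV hVg => ?_
    calc Nat.card V = Nat.card (V.map (MulAut.congr eX.symm).toMonoidHom) :=
          (Subgroup.card_map_of_injective (MulAut.congr eX.symm).injective).symm
      _ ≤ Nat.card (pairAut (T₁ ⊓ T₂) X P) := hsyl.card_le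
          (fun σ hσ => ⟨h.autInducedBy_le_gam (hXN.trans (normalizerIn_le S P)) hσ.1, hσ.2⟩)
          (hV.map _) (by
            rintro _ ⟨v, hv, rfl⟩
            exact ⟨h.gam_congr l.iso.symm (hVg hv).1, l.symm.congr_mem_setStab (hVg hv).2⟩)
      _ ≤ Nat.card (pairAut (T₁ ⊓ T₂) X₀ P₀) :=
          Nat.card_le_card_of_injective (fun σ => ⟨_, hpair σ σ.2⟩) fun σ τ h' =>
            Subtype.ext ((MulAut.congr eX).injective (Subtype.ext_iff.1 h'))
  have h1 := h.down_fc (isFullyCentralized_of_isFullyNormalized h.grp h.sat hP₀)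
    (hTC.conj h.sc he.isConj) l.le' hX₀ hsyl₀
    (b := MulAut.congr eX b) ⟨h.gam_congr l.iso hb.1, l.congr_mem_setStab hb.2⟩
  have h2 := h.gam_congr he.symm h1
  convert h2 using 1
  have hex : ∀ y : P, (eX ⟨y, hPX y.2⟩ : Ω) = e y := fun y => (heX _).trans (hag y)
  refine MulEquiv.ext fun x => e.injective ?_
  rw [congr_apply, MulEquiv.symm_symm, MulEquiv.apply_symm_apply]
  refine Subtype.ext ((hex _).symm.trans ?_)
  show ((eX (b ⟨x, hPX x.2⟩) : X₀) : Ω) = ((eX (b (eX.symm ⟨(e x : Ω), l.le' (e x).2⟩)) : X₀) : Ω)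
  rw [show eX.symm ⟨(e x : Ω), l.le' (e x).2⟩ = ⟨x, hPX x.2⟩ from by
    rw [MulEquiv.symm_apply_eq]
    exact Subtype.ext (hex x).symm]

/-- Extension along a chain: the elements of `gam P` carrying `Aut_X(P)` into `Aut_T(P)`. -/
theorem exists_map_of_gam (hP : F.IsFullyNormalized P) (hTC : IsTC F (T₁ ⊓ T₂) P)
    (E : Cfsg.FusionSystem (T₁ ⊓ T₂))
    (hgen : ∀ Y, IsTC F (T₁ ⊓ T₂) Y → h.gam Y ≤ E.autGroup Y)
    {c : MulAut P} (hc : c ∈ h.gam P) (hPX : P ≤ X) (hX : X ≤ normalizerIn (T₁ ⊓ T₂) P)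
    (hact : ∀ x (hx : x ∈ X), c * conjAut P x (hX hx).2 * c⁻¹ ∈ autInducedBy (T₁ ⊓ T₂) P) :
    ∃ ψ ∈ E.Hom X, ∀ y : P, ψ (Subgroup.inclusion hPX y) = (c y : Ω) := by
  have hfc := isFullyCentralized_of_isFullyNormalized h.grp h.sat hP
  have hPT := hTC.1
  have hPS : P ≤ S := hP.1
  have : Finite ↥(T₁ ⊓ T₂) := finite_of_le h.le
  have : Finite P := finite_of_le hPS
  have : Finite (MulAut P) := finite_mulAut
  obtain ⟨Pg, hPg⟩ := h.gam_sylow hP hPT
  set NT := normalizerIn (T₁ ⊓ T₂) P with hNT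
  suffices key : ∀ (A : Set (h.gam P)) (g : h.gam P), AlperinGroup.Chain Pg A g →
      ∀ (X : Subgroup Ω) (hPX : P ≤ X) (hX : X ≤ NT),
        (∀ x (hx : x ∈ X), ∃ z ∈ A, (z : MulAut P) = conjAut P x (hX hx).2) →
        ∃ ψ ∈ E.Hom X, ∀ y : P, ψ (Subgroup.inclusion hPX y) = ((g⁻¹ : h.gam P) : MulAut P) y by
    set A : Set (h.gam P) := {z | ∃ x, ∃ hx : x ∈ X, (z : MulAut P) = conjAut P x (hX hx).2}
    have hA : A ⊆ (Pg : Set (h.gam P)) := by
      rintro z ⟨x, hx, hz⟩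
      rw [SetLike.mem_coe]
      show z ∈ (Pg : Subgroup (h.gam P))
      rw [hPg, Subgroup.mem_subgroupOf, hz]
      exact conjAut_mem_autInducedBy (hX hx).1 _
    have hAg : (fun a => ((⟨c, hc⟩ : h.gam P)⁻¹)⁻¹ * a * (⟨c, hc⟩ : h.gam P)⁻¹) '' A ⊆
        (Pg : Set (h.gam P)) := by
      rintro _ ⟨z, ⟨x, hx, hz⟩, rfl⟩
      rw [SetLike.mem_coe]
      show _ ∈ (Pg : Subgroup (h.gam P))
      rw [hPg, Subgroup.mem_subgroupOf, inv_inv]
      show c * (z : MulAut P) * c⁻¹ ∈ _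
      rw [hz]
      exact hact x hx
    obtain ⟨ψ, hψ, hψx⟩ := key A _ (AlperinGroup.alperin Pg A _ hA hAg) X hPX hX fun x hx =>
      ⟨⟨_, h.autInducedBy_le_gam hPS (conjAut_mem_autInducedBy (hX hx).1 _)⟩, ⟨x, hx, rfl⟩, rfl⟩
    refine ⟨ψ, hψ, fun y => ?_⟩
    rw [hψx, inv_inv]
  intro A g hchain
  induction hchain with
  | one A =>
    intro X hPX hX _
    exact ⟨X.subtype, subtype_mem E (hX.trans (normalizerIn_le _ _)), fun y => by simp⟩
  | cons A x g Q hA ht hx _ ih =>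
    intro X hPX hX hXA
    set V : Subgroup (h.gam P) := (Pg : Subgroup (h.gam P)) ⊓ (Q : Subgroup (h.gam P)) with hV
    set Y := ((V.map (h.gam P).subtype).comap (P.normalizerMonoidHom.comp
      (Subgroup.inclusion (inf_le_right : NT ≤ Subgroup.normalizer (P : Set Ω))))).map NT.subtype
      with hYdef
    have hYN : Y ≤ NT := Subgroup.map_subtype_le _
    have hYmem : ∀ y (hy : y ∈ NT), y ∈ Y ↔ ∃ v ∈ V, (v : MulAut P) = conjAut P y hy.2 := by
      intro y hy
      constructor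
      · rintro ⟨⟨_, hy'⟩, ⟨v, hv, hve⟩, rfl⟩
        exact ⟨v, hv, hve⟩
      · rintro ⟨v, hv, hve⟩
        exact ⟨⟨y, hy⟩, ⟨v, hv, hve⟩, rfl⟩
    have hXY : X ≤ Y := fun y hy => by
      obtain ⟨z, hz, hze⟩ := hXA y hy
      exact (hYmem y (hX hy)).2 ⟨z, hA hz, hze⟩
    have hPY : P ≤ Y := hPX.trans hXY
    have hYT : Y ≤ T₁ ⊓ T₂ := hYN.trans (normalizerIn_le _ _)
    have hVY : ∀ v ∈ V, ∃ y ∈ Y, ∃ hy : y ∈ NT, (v : MulAut P) = conjAut P y hy.2 := by
      intro v hv
      have h1 : v ∈ (Pg : Subgroup (h.gam P)) := hv.1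
      rw [hPg, Subgroup.mem_subgroupOf] at h1
      obtain ⟨y, hyN, hyT, hye⟩ := exists_eq_conjAut h1
      exact ⟨y, (hYmem y ⟨hyT, hyN⟩).2 ⟨v, hv, hye⟩, ⟨hyT, hyN⟩, hye⟩
    set NV := Subgroup.normalizer ((V : Subgroup (h.gam P)) : Set (h.gam P))
    set M : Subgroup NV := ((((E.autGroup Y).comap (setStab Y P).subtype).map (resHom hPY))).comap
      ((h.gam P).subtype.comp NV.subtype) with hM
    have hMt : M = ⊤ := by
      have hp : IsPGroup p ((Pg : Subgroup (h.gam P)).subgroupOf NV) :=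
        IsPGroup.comap_subtype Pg.2
      have hidx : ¬ p ∣ ((Pg : Subgroup (h.gam P)).subgroupOf NV).index := by
        have h1 := ht.1
        rw [Subgroup.inf_relIndex_right] at h1
        exact h1
      refine LayerCore.eq_top_of_sylow_of_coprime M (hp.toSylow hidx) (fun n hn => ?_) fun n hn => ?_
      · have h1 : (n : h.gam P) ∈ (Pg : Subgroup (h.gam P)) := hn
        rw [hPg, Subgroup.mem_subgroupOf] at h1
        obtain ⟨t, htN, htT, hte⟩ := exists_eq_conjAut h1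
        have key : ∀ k : NV, ∀ s, ∀ hs : s ∈ NT, ((k : h.gam P) : MulAut P) = conjAut P s hs.2 →
            ∀ y ∈ Y, s * y * s⁻¹ ∈ Y := by
          intro k s hs hk y hy
          obtain ⟨v, hv, hve⟩ := (hYmem y (hYN hy)).1 hy
          refine (hYmem _ (mul_mem (mul_mem hs (hYN hy)) (NT.inv_mem hs))).2
            ⟨(k : h.gam P) * v * (k : h.gam P)⁻¹, conj_mem_of_mem_normalizer k.2 hv, ?_⟩
          rw [Subgroup.coe_mul, Subgroup.coe_mul, Subgroup.coe_inv, hk, hve, conjAut_inv hs.2,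
            conjAut_mul, conjAut_mul]
        have htY : t ∈ Subgroup.normalizer (Y : Set Ω) := by
          refine Subgroup.mem_normalizer_iff.2 fun y => ⟨key n t ⟨htT, htN⟩ hte y, fun hy => ?_⟩
          have h2 := key n⁻¹ t⁻¹ (NT.inv_mem ⟨htT, htN⟩)
            (by rw [Subgroup.coe_inv, Subgroup.coe_inv, hte, conjAut_inv]) _ hy
          simpa [mul_assoc] using h2
        exact ⟨⟨_, conjAut_mem_setStab htY htN⟩,
          autInducedBy_le_autGroup E hYT (conjAut_mem_autInducedBy htT htY),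
          (MulEquiv.ext fun y => Subtype.ext rfl).trans hte.symm⟩
      · set a : MulAut P := ((n : h.gam P) : MulAut P)
        have hao : (orderOf a).Coprime p := by
          rwa [show orderOf a = orderOf n by rw [Subgroup.orderOf_coe, Subgroup.orderOf_coe]]
        obtain ⟨b, hb, hba⟩ := h.up_coprime hfc hTC hPY hYN (n : h.gam P).2 hao fun y hy => by
          obtain ⟨v, hv, hve⟩ := (hYmem y (hYN hy)).1 hy
          obtain ⟨y', hy', hy'N, hv'⟩ := hVY _ (conj_mem_of_mem_normalizer n.2 hv)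
          rw [← hve]
          have h5 := conjAut_mem_autInducedBy (P := P) hy' hy'N.2
          rw [← hv'] at h5
          exact h5
        have hbst : b ∈ setStab Y P := by
          intro y
          constructor
          · intro hy
            have h1 := hba (a⁻¹ ⟨_, hy⟩)
            rw [MulAut.apply_inv_self] at h1
            rw [← b.injective (h1.trans (Subtype.ext rfl) : b _ = b y)]
            exact (a⁻¹ ⟨_, hy⟩).2
          · intro hy
            rw [show y = Subgroup.inclusion hPY (⟨(y : Ω), hy⟩ : P) from rfl, hba]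
            exact (a _).2
        exact ⟨⟨b, hbst⟩, hgen Y (hTC.mono hPY hYT) hb,
          MulEquiv.ext fun y => Subtype.ext (congrArg Subtype.val (hba y) :)⟩
    have hxinv : (⟨x, hx⟩ : NV)⁻¹ ∈ M := hMt ▸ Subgroup.mem_top _
    obtain ⟨β, hβ, hβe⟩ := hxinv
    have hβh := (mem_autGroup_iff_hom hYT).1 (show (β : MulAut Y) ∈ E.autGroup Y from hβ)
    set ψ₁ := (Y.subtype.comp (β : MulAut Y).toMonoidHom).comp (Subgroup.inclusion hXY) with hψ₁
    have hψ₁E : ψ₁ ∈ E.Hom X := restrict_mem hβh hXY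
    set a : MulAut P := ((x⁻¹ : h.gam P) : MulAut P)
    have hagP : ∀ y : P, ψ₁ ⟨y, hPX y.2⟩ = ((a y : P) : Ω) := fun y =>
      (congrArg Subtype.val (DFunLike.congr_fun hβe y) :)
    have hψN : ∀ z : X, ψ₁ z ∈ NT := fun z => ⟨map_mem hψ₁E z,
      map_mem_normalizer_of_extends (e := (a : P ≃* P)) hPX hagP z.2 (hX z.2).2⟩
    have hX₁ : ψ₁.range ≤ NT := by
      rintro _ ⟨z, rfl⟩
      exact hψN z
    have hPX₁ : P ≤ ψ₁.range := fun y hy =>
      ⟨⟨(a⁻¹ ⟨y, hy⟩ : P), hPX (a⁻¹ ⟨y, hy⟩).2⟩, by rw [hagP, MulAut.apply_inv_self]⟩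
    obtain ⟨ψ₂, hψ₂, hψ₂x⟩ := ih ψ₁.range hPX₁ hX₁ (by
      rintro _ ⟨z, rfl⟩
      obtain ⟨w, hw, hwe⟩ := hXA z z.2
      refine ⟨x⁻¹ * w * x, ⟨w, hw, rfl⟩, ?_⟩
      rw [← congr_conjAut_eq_of_extends (e := (a : P ≃* P)) hPX hagP z.2 (hX z.2).2, congr_eq_conj,
        ← hwe]
      show _ = a * (w : MulAut P) * a⁻¹
      simp only [a, Subgroup.coe_mul, Subgroup.coe_inv, inv_inv])
    refine ⟨ψ₂.comp (ψ₁.codRestrict ψ₁.range fun z => ⟨z, rfl⟩),
      E.comp_mem hψ₁E hψ₂ (fun z => ⟨z, rfl⟩), fun y => ?_⟩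
    show ψ₂ ⟨ψ₁ ⟨y, hPX y.2⟩, _⟩ = _
    refine (congrArg ψ₂ (Subtype.ext (hagP y) : _ = Subgroup.inclusion hPX₁ (a y))).trans
      ((hψ₂x (a y)).trans ?_)
    simp only [a, mul_inv_rev, Subgroup.coe_mul, MulAut.mul_apply]

end Setup

end CfsgLib.Fusion.Inter
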